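import Cfsg.Agent.Lib.FrobRealize.EvenSquare
import Cfsg.Agent.Lib.Solvable.FrattiniFitting
import Mathlib

/-!
# Groups with few solutions of `x ^ p = 1`

A finite `p`-group with at most `p` solutions of `x ^ p = 1` is cyclic or generalized quaternion.
-/

set_option autoImplicit false

namespace CfsgLib.FrobRealize.Quaternion

open Subgroup

variable {G : Type*} [Group G] [Finite G]

/-- A maximal normal abelian subgroup of a finite `p`-group is self-centralising. -/
theorem exists_self_centralizing {p : ℕ} [Fact p.Prime] (hG : IsPGroup p G) :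
    ∃ A : Subgroup G, A.Normal ∧ (∀ a ∈ A, ∀ b ∈ A, a * b = b * a) ∧
      ∀ g : G, (∀ a ∈ A, g * a = a * g) → g ∈ A := by
  classical
  obtain ⟨A, hA⟩ := Set.Finite.exists_maximal
    (Set.toFinite {A : Subgroup G | A.Normal ∧ ∀ a ∈ A, ∀ b ∈ A, a * b = b * a})
    ⟨⊥, inferInstance, fun a ha b _ => by rw [mem_bot.1 ha, one_mul, mul_one]⟩
  obtain ⟨⟨hAn, hAc⟩, hmax⟩ := hA
  refine ⟨A, hAn, hAc, ?_⟩
  by_contra hne
  simp only [not_forall] at hne
  obtain ⟨g, hg, hgA⟩ := hne
  have hC : (centralizer (A : Set G)).Normal := inferInstance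
  let q := QuotientGroup.mk' A
  have hCq : ((centralizer (A : Set G)).map q).Normal :=
    hC.map q (QuotientGroup.mk'_surjective A)
  have hnb : (centralizer (A : Set G)).map q ≠ ⊥ := by
    intro h
    have : q g ∈ (centralizer (A : Set G)).map q :=
      mem_map_of_mem q (mem_centralizer_iff.2 fun a ha => (hg a ha).symm)
    rw [h, mem_bot] at this
    exact hgA ((QuotientGroup.eq_one_iff g).1 this)
  have hQ : IsPGroup p (G ⧸ A) := hG.to_quotient A
  have := hQ.isNilpotent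
  obtain ⟨x, hx, hxc, hx1⟩ : ∃ x, x ∈ (centralizer (A : Set G)).map q ∧ x ∈ center (G ⧸ A) ∧
      x ≠ 1 := by
    have h := CfsgLib.Solvable.FrattiniFitting.inf_center_ne_bot ((centralizer (A : Set G)).map q) hnb
    obtain ⟨⟨x, hx⟩, hx1⟩ := ne_bot_iff_exists_ne_one.1 h
    exact ⟨x, (mem_inf.1 hx).1, (mem_inf.1 hx).2, fun e => hx1 (Subtype.ext e)⟩
  obtain ⟨c, hc, rfl⟩ := hx
  set B : Subgroup G := closure (insert c (A : Set G)) with hB
  have hcA : c ∉ A := fun h => hx1 ((QuotientGroup.eq_one_iff c).2 h)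
  have hAB : A ≤ B := fun a ha => subset_closure (Set.mem_insert_of_mem _ ha)
  have hcB : c ∈ B := subset_closure (Set.mem_insert _ _)
  have hBc : ∀ a ∈ B, ∀ b ∈ B, a * b = b * a := by
    have hgen : ∀ a ∈ insert c (A : Set G), ∀ b ∈ insert c (A : Set G), a * b = b * a := by
      rintro a (rfl | ha) b (rfl | hb)
      · rfl
      · exact (mem_centralizer_iff.1 hc b hb).symm
      · exact mem_centralizer_iff.1 hc a ha
      · exact hAc a ha b hb
    have := Subgroup.isMulCommutative_closure hgen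
    intro a ha b hb
    exact congrArg Subtype.val (this.is_comm.comm ⟨a, ha⟩ ⟨b, hb⟩)
  have hBn : B.Normal := by
    refine ⟨fun b hb h => ?_⟩
    have hmap : B.map (MulAut.conj h).toMonoidHom ≤ B := by
      rw [hB, MonoidHom.map_closure, closure_le, Set.image_insert_eq, Set.insert_subset_iff]
      constructor
      · have h1 : c⁻¹ * (h * c * h⁻¹) ∈ A := by
          rw [← QuotientGroup.eq_one_iff]
          simp only [QuotientGroup.mk_mul, QuotientGroup.mk_inv]
          have hcm : (h : G ⧸ A) * (c : G ⧸ A) = (c : G ⧸ A) * (h : G ⧸ A) :=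
            mem_center_iff.1 hxc _
          rw [hcm]
          group
        have h2 := B.mul_mem hcB (hAB h1)
        simpa [mul_assoc, hB] using h2
      · rintro _ ⟨a, ha, rfl⟩
        exact hAB (hAn.conj_mem a ha h)
    exact hmap (mem_map_of_mem _ hb)
  exact hcA (hmax ⟨hBn, hBc⟩ hAB hcB)

/-- A solution of `a ^ (r * r) = a⁻¹` forces an element of order at most two. -/
theorem sq_ne_neg_one {N : ℕ} (hN : 4 ∣ N) (r : ℤ) : ¬ (N : ℤ) ∣ r * r + 1 := by
  intro h
  have h4 : (4 : ℤ) ∣ r * r + 1 := (Int.natCast_dvd_natCast.2 hN).trans h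
  rcases Int.even_or_odd r with ⟨t, ht⟩ | ⟨t, ht⟩
  · subst ht
    have : (4 : ℤ) ∣ (t + t) * (t + t) := ⟨t * t, by ring⟩
    omega
  · subst ht
    have : (4 : ℤ) ∣ (2 * t + 1) * (2 * t + 1) - 1 := ⟨t * t + t, by ring⟩
    omega

/-- Solvability of `k + i (r + 1) ≡ 0` modulo a power of two. -/
theorem exists_shift {n : ℕ} {r k : ℤ} (hkr : (2 : ℤ) ^ n ∣ k * (r - 1))
    (h1 : ¬ (2 : ℤ) ^ n ∣ r + 1) (h2 : ¬ (2 : ℤ) ^ n ∣ r - 1) :
    ∃ i : ℤ, (2 : ℤ) ^ n ∣ k + i * (r + 1) := by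
  -- `gcd (r + 1) 2 ^ n` divides `k`
  suffices hg : (Int.gcd (r + 1) ((2 : ℤ) ^ n) : ℤ) ∣ k by
    obtain ⟨t, ht⟩ := hg
    refine ⟨-(t * Int.gcdA (r + 1) ((2 : ℤ) ^ n)), t * Int.gcdB (r + 1) ((2 : ℤ) ^ n), ?_⟩
    rw [ht, Int.gcd_eq_gcd_ab]
    ring
  obtain ⟨j, hj, hgj⟩ : ∃ j ≤ n, Int.gcd (r + 1) ((2 : ℤ) ^ n) = 2 ^ j := by
    refine (Nat.dvd_prime_pow Nat.prime_two).1 ?_
    have := Int.gcd_dvd_right (r + 1) ((2 : ℤ) ^ n)
    exact_mod_cast this
  have hjn : j < n := by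
    refine lt_of_le_of_ne hj fun h => h1 ?_
    have := Int.gcd_dvd_left (r + 1) ((2 : ℤ) ^ n)
    rw [hgj, h] at this
    exact_mod_cast this
  rw [hgj]
  push_cast
  have key : ∀ (a : ℤ) (t : ℕ), ¬ (2 : ℤ) ∣ a → (2 : ℤ) ^ t ∣ k * a → (2 : ℤ) ^ t ∣ k := by
    intro a t ha ht
    exact ((Int.prime_two.coprime_iff_not_dvd.2 ha).pow_left).dvd_of_dvd_mul_right ht
  rcases Int.even_or_odd r with he | hodd
  · refine dvd_trans (pow_dvd_pow 2 hj) (key _ n ?_ hkr)
    obtain ⟨t, ht⟩ := he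
    omega
  · obtain ⟨t, ht⟩ := hodd
    rcases Int.even_or_odd t with ⟨s, hs⟩ | ⟨s, hs⟩
    · -- `r + 1` is twice an odd number
      have hj1 : j ≤ 1 := by
        by_contra hc
        have h := Int.gcd_dvd_left (r + 1) ((2 : ℤ) ^ n)
        rw [hgj] at h
        push_cast at h
        have h4 : (2 : ℤ) ^ 2 ∣ r + 1 := (pow_dvd_pow 2 (by omega)).trans h
        omega
      refine dvd_trans (pow_dvd_pow 2 hj1) ?_
      by_contra hk
      rw [pow_one] at hk
      exact h2 (((Int.prime_two.coprime_iff_not_dvd.2 hk).pow_left).dvd_of_dvd_mul_left hkr)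
    · -- `r - 1` is twice an odd number
      refine dvd_trans (pow_dvd_pow 2 (show j ≤ n - 1 by omega)) (key ((r - 1) / 2) _ ?_ ?_)
      · omega
      · have h2' : r - 1 = 2 * ((r - 1) / 2) := by omega
        obtain ⟨m, rfl⟩ : ∃ m, n = m + 1 := ⟨n - 1, by omega⟩
        rw [h2', pow_succ', mul_left_comm] at hkr
        exact Int.dvd_of_mul_dvd_mul_left two_ne_zero hkr

variable {a : G}

/-- The key step: an element outside the cyclic group `A` with square in it inverts it. -/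
theorem inverts {n : ℕ} (ha : orderOf a = 2 ^ n) (huniq : ∀ g : G, g * g = 1 → g ∈ zpowers a)
    (hnorm : ∀ g : G, g * a * g⁻¹ ∈ zpowers a)
    (hcent : ∀ g : G, g * a = a * g → g ∈ zpowers a) {x : G} (hx : x ∉ zpowers a)
    (hx2 : x * x ∈ zpowers a) : x * a * x⁻¹ = a⁻¹ := by
  obtain ⟨r, hr⟩ := mem_zpowers_iff.1 (hnorm x)
  obtain ⟨k, hk⟩ := mem_zpowers_iff.1 hx2
  by_contra hne
  have hcast : ((2 ^ n : ℕ) : ℤ) = (2 : ℤ) ^ n := by push_cast; rfl
  have hd : ∀ m : ℤ, a ^ m = 1 ↔ (2 : ℤ) ^ n ∣ m := fun m => by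
    rw [← orderOf_dvd_iff_zpow_eq_one, ha, hcast]
  have hcj : ∀ i : ℤ, x * a ^ i * x⁻¹ = a ^ (r * i) := fun i => by
    rw [← conj_zpow, ← hr, zpow_mul]
  have hkr : (2 : ℤ) ^ n ∣ k * (r - 1) := by
    rw [← hd, show k * (r - 1) = r * k - k by ring, zpow_sub, ← hcj, hk]
    group
  have h1 : ¬ (2 : ℤ) ^ n ∣ r + 1 := by
    rw [← hd, zpow_add, zpow_one, hr]
    exact fun h => hne (mul_eq_one_iff_eq_inv.1 h)
  have h2 : ¬ (2 : ℤ) ^ n ∣ r - 1 := by
    rw [← hd, zpow_sub, zpow_one, hr, mul_inv_eq_one]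
    exact fun h => hx (hcent x (mul_inv_eq_iff_eq_mul.1 h))
  obtain ⟨i, hi⟩ := exists_shift hkr h1 h2
  have hsq : (a ^ i * x) * (a ^ i * x) = 1 := by
    calc (a ^ i * x) * (a ^ i * x) = a ^ i * (x * a ^ i * x⁻¹) * (x * x) := by group
      _ = a ^ (i + r * i + k) := by rw [hcj, ← hk, zpow_add, zpow_add]
      _ = 1 := (hd _).2 (by rw [show i + r * i + k = k + i * (r + 1) by ring]; exact hi)
  refine hx ?_
  have := (zpowers a).mul_mem ((zpowers a).inv_mem (zpow_mem (mem_zpowers a) i)) (huniq _ hsq)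
  simpa using this

/-- The identification with a quaternion group. -/
theorem nonempty_equiv {n : ℕ} (ha : orderOf a = 2 ^ (n + 1)) {x : G}
    (hx : x ∉ zpowers a) (hinv : x * a * x⁻¹ = a⁻¹) (hx2 : x * x = a ^ (2 ^ n))
    (hcov : ∀ g : G, g ∈ zpowers a ∨ x⁻¹ * g ∈ zpowers a) :
    Nonempty (G ≃* QuaternionGroup (2 ^ n)) := by
  have hN : 2 * 2 ^ n = orderOf a := by rw [ha, pow_succ']
  let e : ZMod (2 * 2 ^ n) → G := fun i => a ^ (i.val : ℕ)
  have he : ∀ i j, e (i + j) = e i * e j := by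
    intro i j
    have : NeZero (2 * 2 ^ n) := ⟨by positivity⟩
    simp only [e, ← pow_add]
    rw [ZMod.val_add]
    generalize i.val + j.val = m
    rw [hN, pow_mod_orderOf]
  have hneg : ∀ i, e (-i) = (e i)⁻¹ := fun i => by
    refine eq_inv_of_mul_eq_one_left ?_
    rw [← he, neg_add_cancel]
    simp [e]
  have hsub : ∀ i j, e (i - j) = e i * (e j)⁻¹ := fun i j => by
    rw [sub_eq_add_neg, he, hneg]
  have hmid : e ((2 ^ n : ℕ) : ZMod (2 * 2 ^ n)) = x * x := by
    rw [hx2]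
    simp only [e]
    rw [ZMod.val_natCast, hN, pow_mod_orderOf]
  have hconj : ∀ i, x * e i * x⁻¹ = (e i)⁻¹ := fun i => by
    simp only [e, ← conj_pow, hinv, inv_pow]
  have hcomm : ∀ i, e i * x = x * (e i)⁻¹ := fun i => by
    have h := hconj i
    rw [mul_inv_eq_iff_eq_mul] at h
    calc e i * x = ((e i)⁻¹)⁻¹ * x := by rw [inv_inv]
      _ = x * (e i)⁻¹ := by
        rw [eq_mul_inv_iff_mul_eq, mul_assoc, h]
        group
  let f : QuaternionGroup (2 ^ n) →* G :=
    { toFun := fun q => match q with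
        | .a i => e i
        | .xa i => x * e i
      map_one' := by show e 0 = 1; simp [e]
      map_mul' := by
        rintro (i | i) (j | j)
        · exact he i j
        · show x * e (j - i) = e i * (x * e j)
          have : e i * (x * e j) = x * ((e i)⁻¹ * e j) := by rw [← mul_assoc, hcomm, mul_assoc]
          rw [this, sub_eq_add_neg, add_comm, he, hneg]
        · show x * e (i + j) = x * e i * e j
          rw [he, mul_assoc]
        · show e (((2 ^ n : ℕ) : ZMod (2 * 2 ^ n)) + j - i) = x * e i * (x * e j)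
          have : x * e i * (x * e j) = x * x * ((e i)⁻¹ * e j) := by
            rw [mul_assoc, ← mul_assoc (e i), hcomm, mul_assoc, ← mul_assoc x x]
          rw [this, ← hmid, show (((2 ^ n : ℕ) : ZMod (2 * 2 ^ n)) + j - i) =
            ((2 ^ n : ℕ) : ZMod (2 * 2 ^ n)) + (-i + j) by ring, he, he, hneg] }
  have hez : ∀ g ∈ zpowers a, ∃ i, e i = g := by
    intro g hg
    obtain ⟨m, rfl⟩ := (mem_powers_iff_mem_zpowers).2 hg
    refine ⟨(m : ZMod (2 * 2 ^ n)), ?_⟩
    simp only [e]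
    rw [ZMod.val_natCast, hN, pow_mod_orderOf]
  have hsurj : Function.Surjective f := by
    intro g
    rcases hcov g with hg | hg
    · obtain ⟨i, hi⟩ := hez g hg
      exact ⟨.a i, hi⟩
    · obtain ⟨i, hi⟩ := hez _ hg
      exact ⟨.xa i, by show x * e i = g; rw [hi, mul_inv_cancel_left]⟩
  have hinj : Function.Injective f := by
    have : NeZero (2 * 2 ^ n) := ⟨by positivity⟩
    have hej : Function.Injective e := fun i j h =>
      ZMod.val_injective _ (pow_injOn_Iio_orderOf (hN ▸ ZMod.val_lt i) (hN ▸ ZMod.val_lt j) h)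
    have hmem : ∀ i, e i ∈ zpowers a := fun i => pow_mem (mem_zpowers a) _
    rintro (i | i) (j | j) h
    · exact congrArg _ (hej h)
    · change e i = x * e j at h
      refine absurd ?_ hx
      rw [← mul_inv_eq_iff_eq_mul.2 h]
      exact (zpowers a).mul_mem (hmem i) ((zpowers a).inv_mem (hmem j))
    · change x * e i = e j at h
      refine absurd ?_ hx
      rw [← mul_inv_eq_iff_eq_mul.2 h.symm]
      exact (zpowers a).mul_mem (hmem j) ((zpowers a).inv_mem (hmem i))
    · exact congrArg _ (hej (mul_left_cancel h))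
  exact ⟨(MulEquiv.ofBijective f ⟨hinj, hsurj⟩).symm⟩

/-- Finite `p`-groups with at most `p` solutions of `x ^ p = 1`. -/
theorem cyclic_or_quaternion {p : ℕ} [Fact p.Prime] (hG : IsPGroup p G)
    (hfew : Nat.card {x : G // x ^ p = 1} ≤ p) :
    IsCyclic G ∨ (p = 2 ∧ ∃ n : ℕ, Nonempty (G ≃* QuaternionGroup (2 ^ n))) := by
  by_cases hc : IsCyclic G
  · exact Or.inl hc
  obtain rfl : p = 2 := by
    rcases (Fact.out : p.Prime).eq_two_or_odd' with h | h
    · exact h
    · exact absurd (EvenSquare.isCyclic_of_few_roots _ G rfl hG (Or.inl h) hfew) hc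
  refine Or.inr ⟨rfl, ?_⟩
  obtain ⟨A, hAn, hAc, hAcent⟩ := exists_self_centralizing hG
  have hAcyc : IsCyclic A :=
    EvenSquare.isCyclic_of_few_roots _ A rfl (hG.to_subgroup A)
      (Or.inr fun u v => Subtype.ext (hAc _ u.2 _ v.2))
      (le_trans (Nat.card_le_card_of_injective (fun x : {x : A // x ^ 2 = 1} =>
        (⟨(x.1 : G), by rw [← SubmonoidClass.coe_pow, x.2]; rfl⟩ : {x : G // x ^ 2 = 1}))
          fun u v h => Subtype.ext (Subtype.ext (congrArg Subtype.val h :))) hfew)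
  obtain ⟨a, rfl⟩ := (Subgroup.isCyclic_iff_exists_zpowers_eq_top A).1 hAcyc
  have hnorm : ∀ g : G, g * a * g⁻¹ ∈ zpowers a := fun g => hAn.conj_mem a (mem_zpowers a) g
  have hcent : ∀ g : G, g * a = a * g → g ∈ zpowers a := fun g hg =>
    hAcent g fun b hb => by
      obtain ⟨k, rfl⟩ := mem_zpowers_iff.1 hb
      exact ((show Commute g a from hg).zpow_right k).eq
  obtain ⟨n, hn⟩ := IsPGroup.iff_orderOf.1 hG a
  have hn2 : 2 ≤ n := by
    by_contra hlt
    refine hc ⟨a, fun g => hcent g ?_⟩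
    obtain ⟨k, hk⟩ := mem_zpowers_iff.1 (hnorm g)
    have hsq : a ^ (2 : ℤ) = 1 := by
      rw [← orderOf_dvd_iff_zpow_eq_one, hn]
      interval_cases n <;> norm_num
    rcases Int.even_or_odd k with ⟨t, rfl⟩ | ⟨t, rfl⟩
    · rw [← two_mul, zpow_mul, hsq, one_zpow] at hk
      have : a = 1 := by simpa using conj_eq_one_iff.1 hk.symm
      rw [this, mul_one, one_mul]
    · rw [zpow_add_one, zpow_mul, hsq, one_zpow, one_mul] at hk
      exact mul_inv_eq_iff_eq_mul.1 hk.symm
  have huniq : ∀ g : G, g * g = 1 → g ∈ zpowers a := by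
    intro g hg
    by_contra hga
    have h1 : a ^ (2 ^ (n - 1)) ≠ 1 := fun h => by
      have h' := orderOf_dvd_of_pow_eq_one h
      rw [hn, Nat.pow_dvd_pow_iff_le_right (by norm_num)] at h'
      omega
    let f : Fin 3 → {x : G // x ^ 2 = 1} :=
      ![⟨1, one_pow 2⟩, ⟨a ^ (2 ^ (n - 1)), by
        rw [← pow_mul, ← pow_succ, Nat.sub_add_cancel (by omega), ← hn, pow_orderOf_eq_one]⟩,
        ⟨g, by rw [pow_two, hg]⟩]
    have hf : Function.Injective f := by
      have hg1 : g ≠ 1 := fun h => hga (h ▸ one_mem _)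
      have hg2 : g ≠ a ^ (2 ^ (n - 1)) := fun h => hga (h ▸ pow_mem (mem_zpowers a) _)
      intro i j h
      fin_cases i <;> fin_cases j <;>
        simp_all [f, Subtype.ext_iff, eq_comm]
    have := Nat.card_le_card_of_injective f hf
    simp at this
    omega
  -- all squares lie in the cyclic subgroup
  have hsq : ∀ g : G, g * g ∈ zpowers a := by
    intro g
    by_contra hg
    have hex : ∃ m : ℕ, g ^ (2 ^ m) ∈ zpowers a := by
      obtain ⟨m, hm⟩ := hG g
      exact ⟨m, hm ▸ one_mem _⟩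
    classical
    have hm := Nat.find_spec hex
    have hm2 : 2 ≤ Nat.find hex := by
      by_contra hlt
      apply hg
      interval_cases h : Nat.find hex
      · simp only [pow_zero, pow_one] at hm
        exact (zpowers a).mul_mem hm hm
      · rwa [pow_one, pow_two] at hm
    set y := g ^ (2 ^ (Nat.find hex - 2)) with hy
    have hy2 : y * y = g ^ (2 ^ (Nat.find hex - 1)) := by
      rw [hy, ← pow_add, ← two_mul, ← pow_succ', show Nat.find hex - 2 + 1 = Nat.find hex - 1 by omega]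
    have hout : y * y ∉ zpowers a := by
      rw [hy2]
      exact Nat.find_min hex (by omega)
    have hin : y * y * (y * y) ∈ zpowers a := by
      rw [hy2, ← pow_add, ← two_mul, ← pow_succ', Nat.sub_add_cancel (by omega)]
      exact hm
    have hi := inverts hn huniq hnorm hcent hout hin
    obtain ⟨r, hr⟩ := mem_zpowers_iff.1 (hnorm y)
    refine sq_ne_neg_one (N := 2 ^ n) (pow_dvd_pow 2 hn2) r ?_
    rw [← hn, orderOf_dvd_iff_zpow_eq_one, zpow_add_one, zpow_mul, hr, conj_zpow, hr,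
      show y * (y * a * y⁻¹) * y⁻¹ = (y * y) * a * (y * y)⁻¹ by group, hi, inv_mul_cancel]
  obtain ⟨x, hx⟩ : ∃ x, x ∉ zpowers a := by
    by_contra hne
    exact hc ⟨a, fun g => not_not.1 fun h => hne ⟨g, h⟩⟩
  have hinv := inverts hn huniq hnorm hcent hx (hsq x)
  obtain ⟨m, rfl⟩ : ∃ m, n = m + 1 := ⟨n - 1, by omega⟩
  refine ⟨m, nonempty_equiv hn hx hinv ?_ fun g => ?_⟩
  · obtain ⟨k, hk⟩ := mem_zpowers_iff.1 (hsq x)
    have h1 : a ^ k = (a ^ k)⁻¹ := by
      have e : x * a ^ k * x⁻¹ = a ^ k := by rw [hk]; group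
      rw [← conj_zpow, hinv, inv_zpow] at e
      exact e.symm
    have h2 : (2 : ℤ) ^ (m + 1) ∣ 2 * k := by
      have : a ^ (2 * k) = 1 := by
        rw [two_mul, zpow_add]
        exact mul_eq_one_iff_eq_inv.2 h1
      rw [← orderOf_dvd_iff_zpow_eq_one, hn] at this
      exact_mod_cast this
    rw [pow_succ'] at h2
    obtain ⟨t, rfl⟩ := Int.dvd_of_mul_dvd_mul_left two_ne_zero h2
    rcases Int.even_or_odd t with ⟨s, rfl⟩ | ⟨s, rfl⟩
    · exfalso
      refine hx (huniq x ?_)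
      rw [← hk, ← orderOf_dvd_iff_zpow_eq_one, hn]
      exact ⟨s, by push_cast; ring⟩
    · rw [← hk, show (2 : ℤ) ^ m * (2 * s + 1) = ((2 ^ (m + 1) : ℕ) : ℤ) * s + ((2 ^ m : ℕ) : ℤ) by
        push_cast; ring, zpow_add, zpow_mul, zpow_natCast, zpow_natCast, ← hn,
        pow_orderOf_eq_one, one_zpow, one_mul]
  · by_cases hg : g ∈ zpowers a
    · exact Or.inl hg
    · have hg' := inverts hn huniq hnorm hcent hg (hsq g)
      refine Or.inr (hcent _ ?_)
      have e : x⁻¹ * g * a * (x⁻¹ * g)⁻¹ = a := by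
        have : x⁻¹ * a⁻¹ * x = a := by rw [← hinv]; group
        calc x⁻¹ * g * a * (x⁻¹ * g)⁻¹ = x⁻¹ * (g * a * g⁻¹) * x := by group
          _ = a := by rw [hg', this]
      exact mul_inv_eq_iff_eq_mul.1 e

end CfsgLib.FrobRealize.Quaternion
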