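import Cfsg.Agent.Lib.FrobRealize.Kernel
import Cfsg.Agent.Lib.Char.Induced
import Cfsg.Agent.Lib.Char.Linear
import Mathlib.GroupTheory.Complement

/-!
# Frobenius' theorem

The Frobenius kernel of a Frobenius complement is a normal complement.
-/

open scoped Pointwise ComplexConjugate

namespace CfsgLib.FrobRealize

universe u

open CfsgLib.Char

variable {G : Type u} [Group G]

/-- A generalized character of norm one with a positive degree is an irreducible character. -/
theorem isIrrCharacter_of_generalized [Fintype G] {χ : G → ℂ}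
    (hχ : Cfsg.IsGeneralizedCharacter G χ) (h : Cfsg.classInner χ χ = 1) {m : ℕ} (hm : 0 < m)
    (hone : χ 1 = m) : Cfsg.IsIrrCharacter G χ := by
  classical
  obtain ⟨hc, hint⟩ := isGeneralizedCharacter_iff.mp hχ
  choose n hn using fun φ : Cfsg.IrrCharacter G => hint φ φ.2
  have he := IsClassFunction.eq_sum_irr hc
  simp only [hn] at he
  have hsum : ((∑ φ : Cfsg.IrrCharacter G, n φ * n φ : ℤ) : ℂ) = ((1 : ℤ) : ℂ) := by
    rw [Int.cast_one, ← h, classInner_eq_sum_irr hc]
    push_cast
    refine Finset.sum_congr rfl fun φ _ => ?_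
    rw [← classInner_conj_symm χ (φ : G → ℂ), hn, map_intCast]
  have hsum' := Int.cast_injective hsum
  obtain ⟨φ, hφ⟩ : ∃ φ, n φ ≠ 0 := by
    by_contra hne
    push Not at hne
    simp [hne] at hsum'
  have hle : ∀ ψ ≠ φ, n ψ = 0 := by
    intro ψ hψ
    by_contra h0
    have h2 : n φ * n φ + n ψ * n ψ ≤ ∑ x : Cfsg.IrrCharacter G, n x * n x := by
      rw [← Finset.sum_pair hψ.symm (f := fun x => n x * n x)]
      exact Finset.sum_le_sum_of_subset_of_nonneg (Finset.subset_univ _)
        fun x _ _ => mul_self_nonneg _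
    have h3 : 0 < n φ * n φ := mul_self_pos.mpr hφ
    have h4 : 0 < n ψ * n ψ := mul_self_pos.mpr h0
    omega
  rw [Finset.sum_eq_single φ (fun ψ _ hne => by rw [hle ψ hne]; simp)
    (fun hh => absurd (Finset.mem_univ φ) hh)] at hsum'
  rw [Finset.sum_eq_single φ (fun ψ _ hne => by rw [hle ψ hne]; simp)
    (fun hh => absurd (Finset.mem_univ φ) hh)] at he
  obtain ⟨k, hk, hk1⟩ := IsIrrCharacter.apply_one_eq φ.2
  have h1 := congrFun he 1
  rw [hone, Pi.smul_apply, smul_eq_mul, hk1] at h1
  have h2 : (m : ℤ) = n φ * k := by exact_mod_cast h1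
  have hφ1 : n φ = 1 := by
    rcases Int.eq_one_or_neg_one_of_mul_eq_one hsum' with h3 | h3
    · exact h3
    · rw [h3] at h2
      omega
  rw [hφ1, Int.cast_one, one_smul] at he
  exact he ▸ φ.2

section

variable [Fintype G] {H : Subgroup G}

omit [Fintype G] in
theorem extend_conj_apply (hH : Cfsg.IsFrobeniusComplement H) {α : H → ℂ}
    (hα : Cfsg.IsClassFunction H α) {h : H} (h1 : (h : G) ≠ 1) (x : G) [Decidable (x ∈ H)] :
    Cfsg.extendByZero H α (x⁻¹ * h * x) = if x ∈ H then α h else 0 := by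
  split_ifs with hx
  · rw [extendByZero_apply_mem H α (H.mul_mem (H.mul_mem (H.inv_mem hx) h.2) hx)]
    have hc := hα h (⟨x, hx⟩⁻¹)
    rw [inv_inv] at hc
    exact hc
  · exact extendByZero_apply_notMem H α fun hc => hx (Kernel.mem_of_mem_conj hH h.2 h1 hc)

theorem indFun_restrict (hH : Cfsg.IsFrobeniusComplement H) [Fintype H] {α : H → ℂ}
    (hα : Cfsg.IsClassFunction H α) (hα1 : α 1 = 0) (h : H) : Cfsg.indFun H α h = α h := by
  classical
  by_cases h1 : h = 1
  · subst h1
    rw [OneMemClass.coe_one, indFun_one, hα1, mul_zero]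
  have h1' : (h : G) ≠ 1 := fun e => h1 (Subtype.ext e)
  rw [indFun_def, Finset.sum_congr rfl fun x _ => extend_conj_apply hH hα h1' x, ← Finset.sum_filter,
    Finset.sum_const, nsmul_eq_mul, ← mul_assoc]
  have hcard : (Finset.univ.filter (fun x : G => x ∈ H)).card = Nat.card H := by
    rw [Nat.card_eq_fintype_card, Fintype.card_subtype]
  rw [hcard, inv_mul_cancel₀ (by exact_mod_cast Nat.card_pos.ne'), one_mul]

/-- An irreducible character of the complement extends to one whose kernel contains the Frobenius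
kernel. -/
theorem exists_extension (hH : Cfsg.IsFrobeniusComplement H) [Fintype H] (θ : Cfsg.IrrCharacter H) :
    ∃ χ : G → ℂ, Cfsg.IsCharacter G χ ∧ (∀ h : H, χ h = (θ : H → ℂ) h) ∧
      ∀ x ∈ Cfsg.frobeniusKernel H, χ x = χ 1 := by
  obtain ⟨m, hm, hm1⟩ := IsIrrCharacter.apply_one_eq θ.2
  set c : H → ℂ := (m : ℂ) • (fun _ => 1) with hc
  set cG : G → ℂ := (m : ℂ) • (fun _ => 1) with hcG
  set α : H → ℂ := (θ : H → ℂ) - c with hα
  have hαc : Cfsg.IsClassFunction H α := fun a b => by
    simp [hα, hc, IsIrrCharacter.isClassFunction θ.2 a b]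
  have hα1 : α 1 = 0 := by simp [hα, hc, hm1]
  have hcc : Cfsg.IsCharacter H c := by
    rw [hc, Nat.cast_smul_eq_nsmul]
    exact IsCharacter.nsmul isCharacter_one m
  have hcGc : Cfsg.IsCharacter G cG := by
    rw [hcG, Nat.cast_smul_eq_nsmul]
    exact IsCharacter.nsmul isCharacter_one m
  have hαg : Cfsg.IsGeneralizedCharacter H α :=
    ⟨_, _, IsIrrCharacter.isCharacter θ.2, hcc, rfl⟩
  obtain ⟨a, b, ha, hb, hab⟩ := IsGeneralizedCharacter.indFun H hαg
  set χ : G → ℂ := Cfsg.indFun H α + cG with hχ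
  have hχg : Cfsg.IsGeneralizedCharacter G χ :=
    ⟨a + cG, b, IsCharacter.add ha hcGc, hb, by rw [hχ, hab]; abel⟩
  have hres : ∀ h : H, χ h = (θ : H → ℂ) h := fun h => by
    rw [hχ, Pi.add_apply, indFun_restrict hH hαc hα1]
    simp [hα, hc, hcG]
  have hresc : (fun h : H => cG h) = c := rfl
  have hresi : (fun h : H => Cfsg.indFun H α h) = α := funext (indFun_restrict hH hαc hα1)
  have hnorm : Cfsg.classInner χ χ = 1 := by
    have hG : Cfsg.IsClassFunction G cG := fun _ _ => rfl
    have e1 : Cfsg.classInner (Cfsg.indFun H α) (Cfsg.indFun H α) = Cfsg.classInner α α := by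
      rw [classInner_indFun H α (indFun_isClassFunction H α), hresi]
    have e2 : Cfsg.classInner (Cfsg.indFun H α) cG = Cfsg.classInner α c := by
      rw [classInner_indFun H α hG, hresc]
    have e3 : Cfsg.classInner cG (Cfsg.indFun H α) = Cfsg.classInner c α := by
      rw [classInner_indFun_right H α hG, hresc]
    have e4 : Cfsg.classInner cG cG = Cfsg.classInner c c := by
      simp [Cfsg.classInner, hc, hcG]
    rw [hχ, classInner_add_left, classInner_add_right, classInner_add_right, e1, e2, e3, e4,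
      ← classInner_add_right, ← classInner_add_right, ← classInner_add_left, hα, sub_add_cancel]
    exact classInner_irr_self θ.2
  have hχ1 : χ 1 = (m : ℂ) := by
    rw [← hm1, ← hres 1, OneMemClass.coe_one]
  refine ⟨χ, IsIrrCharacter.isCharacter (isIrrCharacter_of_generalized hχg hnorm hm hχ1), hres,
    fun x hx => ?_⟩
  rcases Kernel.mem_frobeniusKernel.1 hx with rfl | hx
  · rfl
  · rw [hχ1, hχ, Pi.add_apply, indFun_eq_zero_of_forall H α hx]
    simp [hcG]

end

/-- **Frobenius' theorem.** -/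
theorem exists_normal_kernel [Finite G] {H : Subgroup G} (hH : Cfsg.IsFrobeniusComplement H) :
    ∃ N : Subgroup G, (N : Set G) = Cfsg.frobeniusKernel H ∧ N.Normal ∧
      Subgroup.IsComplement' N H := by
  classical
  cases nonempty_fintype G
  cases nonempty_fintype H
  choose χ hc hr hk using exists_extension hH
  let N : Subgroup G := ⨅ θ, charKer (hc θ)
  have hmem : ∀ x : G, x ∈ N ↔ ∀ θ, χ θ x = χ θ 1 := fun x => by
    simp [N, Subgroup.mem_iInf]
  have hNn : N.Normal := Subgroup.normal_iInf_normal fun θ => charKer_normal (hc θ)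
  have hNH : ∀ h : H, (h : G) ∈ N → h = 1 := fun h hh => eq_one_of_forall_irr fun θ => by
    rw [← hr θ h, ← hr θ 1, OneMemClass.coe_one, (hmem _).1 hh θ]
  have hset : (N : Set G) = Cfsg.frobeniusKernel H := by
    ext x
    refine ⟨fun hx => ?_, fun hx => (hmem x).2 fun θ => hk θ x hx⟩
    rw [Kernel.mem_frobeniusKernel]
    by_contra hc'
    simp only [not_or, not_forall, not_not] at hc'
    obtain ⟨hx1, g, hg⟩ := hc'
    have h1 : g⁻¹ * x * g ∈ N := by simpa using hNn.conj_mem x hx g⁻¹
    have h2 : (⟨g⁻¹ * x * g, hg⟩ : H) = 1 := hNH _ h1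
    have h3 : g⁻¹ * x * g = 1 := congrArg Subtype.val h2
    apply hx1
    calc x = g * (g⁻¹ * x * g) * g⁻¹ := by group
      _ = 1 := by rw [h3]; group
  refine ⟨N, hset, hNn, Subgroup.isComplement'_of_card_mul_and_disjoint ?_ ?_⟩
  · have : Nat.card N = H.index := by
      rw [← Kernel.card_frobeniusKernel hH, ← hset]
      rfl
    rw [this, Subgroup.index_mul_card]
  · rw [Subgroup.disjoint_def]
    intro x hx hxH
    exact congrArg Subtype.val (hNH ⟨x, hxH⟩ hx)

end CfsgLib.FrobRealize
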