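import Cfsg.Agent.Lib.FrobRealize.Theorem
import Cfsg.Agent.Lib.FrobRealize.Quaternion
import Cfsg.Agent.Lib.Coprime.Generation
import Mathlib

/-!
# Fixed-point-free actions inside a group

`A` normalises `K` and no nonidentity element of `A` has a nonidentity fixed point in `K`.
-/

set_option autoImplicit false

namespace CfsgLib.FrobRealize.FPF

open Subgroup

variable {G : Type*} [Group G] [Finite G]

/-- A fixed-point-free action is coprime. -/
theorem coprime_card {A K : Subgroup G} (hAK : A ≤ normalizer (K : Set G))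
    (hfpf : ∀ a ∈ A, a ≠ 1 → K ⊓ centralizer {a} = ⊥) :
    (Nat.card A).Coprime (Nat.card K) := by
  refine Nat.coprime_of_dvd fun r hr hA hK => ?_
  have := Fact.mk hr
  obtain ⟨a, ha⟩ := exists_prime_orderOf_dvd_card' r hA
  have ha' : (a : G) ∈ A := a.2
  have ho : orderOf (a : G) = r := by rw [Subgroup.orderOf_coe, ha]
  have hne : (a : G) ≠ 1 := fun h => hr.one_lt.ne' (by rw [← ho, h, orderOf_one])
  let _ : MulAction (zpowers (a : G)) K := MulAction.compHom K
    ((Subgroup.normalizerMonoidHom K).comp (inclusion ((zpowers_le.2 ha').trans hAK)))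
  have hP : IsPGroup r (zpowers (a : G)) := IsPGroup.of_card (n := 1) (by
    rw [Nat.card_zpowers, ho, pow_one])
  have hone : (1 : K) ∈ MulAction.fixedPoints (zpowers (a : G)) K := fun g => by
    apply Subtype.ext
    show (g : G) * 1 * (g : G)⁻¹ = 1
    group
  obtain ⟨b, hb, hb1⟩ :=
    hP.exists_fixed_point_of_prime_dvd_card_of_fixed_point (α := K) hK hone
  have h1 : (a : G) * (b : G) * (a : G)⁻¹ = b :=
    congrArg Subtype.val (hb ⟨a, mem_zpowers _⟩)
  have hmem : (b : G) ∈ K ⊓ centralizer {(a : G)} :=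
    mem_inf.2 ⟨b.2, mem_centralizer_singleton_iff.2 (mul_inv_eq_iff_eq_mul.1 h1).symm⟩
  rw [hfpf _ ha' hne, mem_bot] at hmem
  exact hb1 (Subtype.ext hmem.symm)

/-- An abelian group acting fixed-point-freely is cyclic. -/
theorem isCyclic_of_comm {A K : Subgroup G} (hK : K ≠ ⊥) (hAK : A ≤ normalizer (K : Set G))
    (hfpf : ∀ a ∈ A, a ≠ 1 → K ⊓ centralizer {a} = ⊥) (hc : IsMulCommutative A) :
    IsCyclic A := by
  by_contra hnc
  refine hK ?_
  rw [← CfsgLib.Coprime.iSup_centralizer_singleton hnc hAK (coprime_card hAK hfpf)]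
  simp only [iSup_eq_bot]
  rintro a ⟨ha, ha1⟩
  exact hfpf a ha ha1

/-- In a `p`-group acting fixed-point-freely there are at most `p` solutions of `x ^ p = 1`. -/
theorem card_roots_le {p : ℕ} [Fact p.Prime] {A K : Subgroup G} (hK : K ≠ ⊥)
    (hAK : A ≤ normalizer (K : Set G)) (hfpf : ∀ a ∈ A, a ≠ 1 → K ⊓ centralizer {a} = ⊥)
    (hA : IsPGroup p A) : Nat.card {x : A // x ^ p = 1} ≤ p := by
  classical
  have hp := (Fact.out : p.Prime)
  by_cases htriv : Subsingleton A
  · exact le_trans (Finite.card_le_one_iff_subsingleton.2 inferInstance) hp.one_lt.le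
  have : Nontrivial A := not_subsingleton_iff_nontrivial.1 htriv
  have := hA.center_nontrivial
  obtain ⟨z, hz⟩ : ∃ z : center A, orderOf z = p := by
    obtain ⟨n, hn, hcard⟩ := (hA.to_subgroup (center A)).nontrivial_iff_card.1 inferInstance
    exact exists_prime_orderOf_dvd_card' p (hcard ▸ dvd_pow_self p (by omega))
  have hz' : orderOf (z : A) = p := by rw [Subgroup.orderOf_coe, hz]
  suffices h : ∀ x : A, x ^ p = 1 → x ∈ zpowers (z : A) by
    refine le_trans (Nat.card_le_card_of_injective
      (fun x : {x : A // x ^ p = 1} => (⟨x.1, h x.1 x.2⟩ : zpowers (z : A)))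
      fun a b e => Subtype.ext (congrArg (fun y : zpowers (z : A) => (y : A)) e)) ?_
    rw [Nat.card_zpowers, hz']
  intro x hx
  by_contra hxz
  set E : Subgroup A := closure ({(z : A), x} : Set A) with hE
  have hgen : ∀ a ∈ ({(z : A), x} : Set A), ∀ b ∈ ({(z : A), x} : Set A), a * b = b * a := by
    rintro a (rfl | rfl) b (rfl | rfl)
    · rfl
    · exact (mem_center_iff.1 z.2 _).symm
    · exact mem_center_iff.1 z.2 _
    · rfl
  have hEc : IsMulCommutative E := Subgroup.isMulCommutative_closure hgen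
  have hexp : ∀ e : E, e ^ p = 1 := by
    intro e
    obtain ⟨e, he⟩ := e
    apply Subtype.ext
    show e ^ p = 1
    induction he using closure_induction with
    | mem y hy =>
      rcases hy with rfl | rfl
      · rw [← hz', pow_orderOf_eq_one]
      · exact hx
    | one => exact one_pow p
    | mul a b ha hb iha ihb =>
      rw [(show Commute a b from
        congrArg Subtype.val (hEc.is_comm.comm ⟨a, ha⟩ ⟨b, hb⟩)).mul_pow, iha, ihb, one_mul]
    | inv a _ iha => rw [inv_pow, iha, inv_one]
  let E' : Subgroup G := E.map A.subtype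
  have hle : E' ≤ A := map_subtype_le E
  let eq : E ≃* E' := equivMapOfInjective E A.subtype A.subtype_injective
  have hc' : IsMulCommutative E' := ⟨⟨fun a b => eq.symm.injective (by
    rw [map_mul, map_mul]; exact hEc.is_comm.comm _ _)⟩⟩
  have hcyc' := isCyclic_of_comm hK (hle.trans hAK) (fun a ha => hfpf a (hle ha)) hc'
  have hcyc : IsCyclic E := isCyclic_of_surjective eq.symm eq.symm.surjective
  obtain ⟨g, hg⟩ := hcyc.exists_generator
  have hcard : Nat.card E ≤ p := by
    rw [← orderOf_eq_card_of_forall_mem_zpowers hg]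
    exact orderOf_le_of_pow_eq_one hp.pos (hexp g)
  have hzE : zpowers (z : A) ≤ E := zpowers_le.2 (subset_closure (Set.mem_insert _ _))
  have heq : zpowers (z : A) = E :=
    eq_of_le_of_card_ge hzE (by rw [Nat.card_zpowers, hz']; exact hcard)
  exact hxz (heq ▸ subset_closure (Set.mem_insert_of_mem _ rfl))

/-- Sylow subgroups of a fixed-point-free group are cyclic or generalized quaternion. -/
theorem sylow_cyclic_or_quaternion {p : ℕ} [Fact p.Prime] {A K : Subgroup G} (hK : K ≠ ⊥)
    (hAK : A ≤ normalizer (K : Set G)) (hfpf : ∀ a ∈ A, a ≠ 1 → K ⊓ centralizer {a} = ⊥)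
    (P : Sylow p A) :
    IsCyclic P ∨ (p = 2 ∧ ∃ n : ℕ, Nonempty (P ≃* QuaternionGroup (2 ^ n))) := by
  refine Quaternion.cyclic_or_quaternion P.isPGroup' ?_
  let P' : Subgroup G := (P : Subgroup A).map A.subtype
  have hle : P' ≤ A := map_subtype_le _
  let e : (P : Subgroup A) ≃* P' := equivMapOfInjective _ A.subtype A.subtype_injective
  refine le_trans (Nat.card_le_card_of_injective
    (fun x : {x : P // x ^ p = 1} =>
      (⟨e x.1, by rw [← map_pow, x.2, map_one]⟩ : {x : P' // x ^ p = 1}))
    fun a b h => Subtype.ext (e.injective (congrArg Subtype.val h :))) ?_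
  exact card_roots_le hK (hle.trans hAK) (fun a ha => hfpf a (hle ha))
    (P.isPGroup'.of_equiv e)

/-- The kernel of a Frobenius complement, with its fixed-point-free action. -/
theorem exists_fpf_kernel {H : Subgroup G} (hH : Cfsg.IsFrobeniusComplement H) :
    ∃ N : Subgroup G, N.Normal ∧ N ≠ ⊥ ∧ H ≤ normalizer (N : Set G) ∧
      (∀ a ∈ H, a ≠ 1 → N ⊓ centralizer {a} = ⊥) ∧ Subgroup.IsComplement' N H ∧
      (N : Set G) = Cfsg.frobeniusKernel H := by
  obtain ⟨N, hset, hN, hc⟩ := exists_normal_kernel hH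
  have := hN
  refine ⟨N, hN, ?_, ?_, fun a ha ha1 => ?_, hc, hset⟩
  · rintro rfl
    exact hH.2.1 (Subgroup.isComplement'_bot_left.1 hc)
  · rw [normalizer_eq_top]
    exact le_top
  · rw [eq_bot_iff]
    intro x hx
    obtain ⟨hxN, hxc⟩ := mem_inf.1 hx
    have hxH : x ∈ H := by
      refine Kernel.mem_of_mem_conj hH ha ha1 ?_
      have e : a * x = x * a := by
        have := mem_centralizer_singleton_iff.1 hxc
        first
          | exact this
          | exact this.symm
      rw [mul_assoc, e, inv_mul_cancel_left]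
      exact ha
    exact hc.disjoint.le_bot (mem_inf.2 ⟨hxN, hxH⟩)

/-- Two noncommuting cyclic groups of coprime prime orders cannot act fixed-point-freely on an
abelian group. -/
theorem isMulCommutative_of_card_mul {A V : Subgroup G} [IsMulCommutative V] (hV : V ≠ ⊥)
    (hAV : A ≤ normalizer (V : Set G)) (hfpf : ∀ a ∈ A, a ≠ 1 → V ⊓ centralizer {a} = ⊥)
    {p q : ℕ} (hp : p.Prime) (hq : q.Prime) (hlt : p < q) (hcard : Nat.card A = p * q) :
    IsMulCommutative A := by
  classical
  have := Fact.mk hp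
  have := Fact.mk hq
  by_contra hnc
  obtain ⟨a, ha⟩ := exists_prime_orderOf_dvd_card' p (G := A) (hcard ▸ Dvd.intro q rfl)
  obtain ⟨b, hb⟩ := exists_prime_orderOf_dvd_card' q (G := A) (hcard ▸ Dvd.intro_left p rfl)
  have hidx : (zpowers b).index = p := by
    have h := (zpowers b).card_mul_index
    rw [Nat.card_zpowers, hb, hcard, mul_comm p] at h
    exact Nat.eq_of_mul_eq_mul_left hq.pos h
  have hmin : (Nat.card A).minFac = p := by
    rw [hcard]
    refine le_antisymm (Nat.minFac_le_of_dvd hp.two_le (Dvd.intro q rfl)) ?_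
    have h2 : (p * q).minFac.Prime := Nat.minFac_prime (by nlinarith [hp.two_le, hq.two_le])
    rcases (Nat.Prime.dvd_mul h2).1 (Nat.minFac_dvd _) with h | h
    · exact ((Nat.prime_dvd_prime_iff_eq h2 hp).1 h).ge
    · rw [(Nat.prime_dvd_prime_iff_eq h2 hq).1 h]
      exact hlt.le
  have hBn : (zpowers b).Normal :=
    Subgroup.normal_of_index_eq_minFac_card (hmin.symm ▸ hidx)
  -- the operators
  have hVc : ∀ u v : V, u * v = v * u := fun u v => mul_comm' u v
  let _ : CommGroup V := { (inferInstance : Group V) with mul_comm := hVc }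
  let φ : A →* AddMonoid.End (Additive V) :=
    { toFun := fun g => MonoidHom.toAdditive
        (Subgroup.normalizerMonoidHom V (inclusion hAV g)).toMonoidHom
      map_one' := by
        refine AddMonoidHom.ext fun v => ?_
        apply Additive.toMul.injective
        refine Subtype.ext ?_
        show (1 : G) * ((Additive.toMul v : V) : G) * (1 : G)⁻¹ = ((Additive.toMul v : V) : G)
        simp
      map_mul' := fun g h => by
        refine AddMonoidHom.ext fun v => ?_
        apply Additive.toMul.injective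
        refine Subtype.ext ?_
        show ((g : G) * h) * ((Additive.toMul v : V) : G) * ((g : G) * h)⁻¹ =
          (g : G) * ((h : G) * ((Additive.toMul v : V) : G) * (h : G)⁻¹) * (g : G)⁻¹
        group }
  have hzero : ∀ (g : A) (m : ℕ), g ≠ 1 → g ^ m = 1 → ∀ v : Additive V,
      ∑ i ∈ Finset.range m, φ (g ^ i) v = 0 := by
    intro g m hg hgm v
    set S := ∑ i ∈ Finset.range m, φ (g ^ i) v with hS
    have hfix : φ g S = S := by
      have hstep : φ g S = ∑ i ∈ Finset.range m, φ (g ^ (i + 1)) v := by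
        rw [hS, map_sum]
        refine Finset.sum_congr rfl fun i _ => ?_
        rw [pow_succ', map_mul]
        rfl
      have h1 := Finset.sum_range_succ' (fun i => φ (g ^ i) v) m
      rw [Finset.sum_range_succ, hgm, pow_zero] at h1
      rw [hstep, hS]
      exact (add_right_cancel h1).symm
    have h2 : (g : G) * ((Additive.toMul S : V) : G) * (g : G)⁻¹ = (Additive.toMul S : V) :=
      congrArg (fun w : Additive V => ((Additive.toMul w : V) : G)) hfix
    have h3 : ((Additive.toMul S : V) : G) ∈ V ⊓ centralizer {(g : G)} :=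
      mem_inf.2 ⟨(Additive.toMul S : V).2,
        mem_centralizer_singleton_iff.2 (mul_inv_eq_iff_eq_mul.1 h2).symm⟩
    rw [hfpf _ g.2 (fun h => hg (Subtype.ext h)), mem_bot] at h3
    exact Additive.toMul.injective (Subtype.ext h3)
  refine hV ((Subgroup.eq_bot_iff_forall _).2 fun v hv => ?_)
  set w : Additive V := Additive.ofMul ⟨v, hv⟩ with hw
  have hzpb : ∀ x ∈ zpowers b, x * b = b * x := fun x hx => by
    obtain ⟨k, rfl⟩ := mem_zpowers_iff.1 hx
    exact (((Commute.refl b).zpow_right k).eq).symm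
  have hnot : ∀ j : ℕ, ¬ p ∣ j → b * a ^ j ≠ a ^ j * b := by
    intro j hj h
    have hgcd : j.gcd (orderOf a) = 1 := by
      rw [ha]; exact ((hp.coprime_iff_not_dvd).2 hj).symm
    have hja : a ∈ zpowers (a ^ j) := (mem_zpowers_pow_iff).2 hgcd
    have hab : b * a = a * b := by
      obtain ⟨k, hk⟩ := mem_zpowers_iff.1 hja
      rw [← hk]
      exact ((show Commute b (a ^ j) from h).zpow_right k).eq
    apply hnc
    have htop : closure ({a, b} : Set A) = ⊤ := by
      refine eq_top_of_card_eq _ (Nat.dvd_antisymm (card_subgroup_dvd_card _) ?_)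
      rw [hcard]
      refine ((Nat.coprime_primes hp hq).2 hlt.ne).mul_dvd_of_dvd_of_dvd ?_ ?_
      · rw [← ha, ← Nat.card_zpowers]
        exact card_dvd_of_le (zpowers_le.2 (subset_closure (Set.mem_insert _ _)))
      · rw [← hb, ← Nat.card_zpowers]
        exact card_dvd_of_le (zpowers_le.2 (subset_closure (Set.mem_insert_of_mem _ rfl)))
    have hgen : ∀ x ∈ ({a, b} : Set A), ∀ y ∈ ({a, b} : Set A), x * y = y * x := by
      rintro x (rfl | rfl) y (rfl | rfl)
      exacts [rfl, hab.symm, hab, rfl]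
    have := Subgroup.isMulCommutative_closure hgen
    exact ⟨⟨fun x y => congrArg Subtype.val
      (this.is_comm.comm ⟨x, htop ▸ mem_top x⟩ ⟨y, htop ▸ mem_top y⟩)⟩⟩
  have hconj : ∀ j i : ℕ,
      (b ^ i * a * (b ^ i)⁻¹) ^ j = (b * a ^ j * b⁻¹ * (a ^ j)⁻¹) ^ i * a ^ j := by
    intro j i
    rw [conj_pow]
    induction i with
    | zero => simp
    | succ i ih =>
      set e := b * a ^ j * b⁻¹ * (a ^ j)⁻¹ with he
      have hemem : e ^ i ∈ zpowers b := by
        refine pow_mem ?_ i
        rw [he, mul_assoc, mul_assoc]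
        refine mul_mem (mem_zpowers b) ?_
        rw [← mul_assoc]
        exact hBn.conj_mem _ (inv_mem (mem_zpowers b)) (a ^ j)
      calc b ^ (i + 1) * a ^ j * (b ^ (i + 1))⁻¹
          = b * (b ^ i * a ^ j * (b ^ i)⁻¹) * b⁻¹ := by rw [pow_succ']; group
        _ = (b * e ^ i) * (a ^ j * b⁻¹) := by rw [ih]; group
        _ = e ^ i * (b * (a ^ j * b⁻¹)) := by rw [← hzpb _ hemem]; group
        _ = e ^ (i + 1) * a ^ j := by rw [pow_succ, he]; group
  have hsum : ∑ j ∈ Finset.range p, ∑ i ∈ Finset.range q,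
      φ ((b ^ i * a * (b ^ i)⁻¹) ^ j) w = 0 := by
    rw [Finset.sum_comm]
    refine Finset.sum_eq_zero fun i _ => hzero _ p ?_ ?_ w
    · intro h
      have : a = 1 := conj_eq_one_iff.1 h
      rw [this, orderOf_one] at ha
      exact hp.one_lt.ne ha
    · rw [conj_pow, ← ha, pow_orderOf_eq_one, mul_one, mul_inv_cancel]
  rw [Finset.sum_eq_single 0] at hsum
  · simp only [pow_zero, map_one, Finset.sum_const, Finset.card_range] at hsum
    have h1 : q • w = 0 := hsum
    have h2 : (⟨v, hv⟩ : V) ^ q = 1 := congrArg Additive.toMul h1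
    have h3 : orderOf (⟨v, hv⟩ : V) ∣ q := orderOf_dvd_of_pow_eq_one h2
    have h4 : orderOf (⟨v, hv⟩ : V) ∣ Nat.card V := orderOf_dvd_natCard _
    have h5 : q.Coprime (Nat.card V) :=
      Nat.Coprime.coprime_dvd_left (hcard ▸ Dvd.intro_left p rfl) (coprime_card hAV hfpf)
    have h6 : orderOf (⟨v, hv⟩ : V) = 1 := Nat.eq_one_of_dvd_coprimes h5 h3 h4
    exact congrArg Subtype.val (orderOf_eq_one_iff.1 h6)
  · intro j hj hj0
    set e := b * a ^ j * b⁻¹ * (a ^ j)⁻¹ with he
    have hpj : ¬ p ∣ j := fun h =>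
      absurd (Nat.le_of_dvd (Nat.pos_of_ne_zero hj0) h) (not_le.2 (Finset.mem_range.1 hj))
    have he1 : e ≠ 1 := fun h => hnot j hpj (by
      rw [he, mul_inv_eq_one, mul_inv_eq_iff_eq_mul] at h
      exact h)
    have hemem : e ∈ zpowers b := by
      rw [he, mul_assoc, mul_assoc]
      refine mul_mem (mem_zpowers b) ?_
      rw [← mul_assoc]
      exact hBn.conj_mem _ (inv_mem (mem_zpowers b)) (a ^ j)
    have heq : e ^ q = 1 := by
      obtain ⟨k, hk⟩ := mem_zpowers_iff.1 hemem
      rw [← hk, ← zpow_natCast, ← zpow_mul, mul_comm, zpow_mul, zpow_natCast, ← hb,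
        pow_orderOf_eq_one, one_zpow]
    calc ∑ i ∈ Finset.range q, φ ((b ^ i * a * (b ^ i)⁻¹) ^ j) w
        = ∑ i ∈ Finset.range q, φ (e ^ i) (φ (a ^ j) w) := by
          refine Finset.sum_congr rfl fun i _ => ?_
          rw [hconj, map_mul]
          rfl
      _ = 0 := hzero e q he1 heq _
  · intro h
    exact absurd (Finset.mem_range.2 hp.pos) h

end CfsgLib.FrobRealize.FPF
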