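import Cfsg.Prelude.Def_Solvable
import Mathlib.GroupTheory.Index
import Mathlib.GroupTheory.Coset.Card
import Mathlib.GroupTheory.OrderOfElement
import Mathlib.Tactic.Group

/-!
# Elementary facts about Frobenius kernels

Counting, and the involution argument for complements of even order.
-/

open scoped Pointwise

namespace CfsgLib.FrobRealize.Kernel

variable {G : Type*} [Group G] {H : Subgroup G}

theorem mem_conj_smul {g x : G} : x ∈ MulAut.conj g • H ↔ g⁻¹ * x * g ∈ H := by
  rw [Subgroup.mem_pointwise_smul_iff_inv_smul_mem, ← map_inv, MulAut.smul_def, MulAut.conj_apply,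
    inv_inv]

theorem mem_of_mem_conj (hH : Cfsg.IsFrobeniusComplement H) {g x : G} (hx : x ∈ H) (hx1 : x ≠ 1)
    (h : g⁻¹ * x * g ∈ H) : g ∈ H := by
  by_contra hg
  have hmem : x ∈ H ⊓ MulAut.conj g • H := Subgroup.mem_inf.2 ⟨hx, mem_conj_smul.2 h⟩
  rw [hH.2.2 g hg, Subgroup.mem_bot] at hmem
  exact hx1 hmem

theorem mem_frobeniusKernel {x : G} :
    x ∈ Cfsg.frobeniusKernel H ↔ x = 1 ∨ ∀ g : G, g⁻¹ * x * g ∉ H := by
  simp only [Cfsg.frobeniusKernel, Set.mem_ofPred_eq, mem_conj_smul]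

theorem conj_mem_frobeniusKernel {x : G} (hx : x ∈ Cfsg.frobeniusKernel H) (g : G) :
    g * x * g⁻¹ ∈ Cfsg.frobeniusKernel H := by
  rw [mem_frobeniusKernel] at hx ⊢
  rcases hx with rfl | h
  · simp
  · refine Or.inr fun c hc => h (g⁻¹ * c) ?_
    simpa [mul_assoc] using hc

/-- The Frobenius kernel has `[G : H]` elements. -/
theorem card_frobeniusKernel [Finite G] (hH : Cfsg.IsFrobeniusComplement H) :
    Nat.card (Cfsg.frobeniusKernel H) = H.index := by
  classical
  let f : (G ⧸ H) × {h : H // h ≠ 1} → ((Cfsg.frobeniusKernel H)ᶜ : Set G) := fun p =>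
    ⟨p.1.out * (p.2.1 : G) * p.1.out⁻¹, by
      rw [Set.mem_compl_iff, mem_frobeniusKernel]
      rintro (h | h)
      · rw [mul_inv_eq_one, mul_eq_left] at h
        exact p.2.2 (Subtype.ext h)
      · refine h p.1.out ?_
        simp [mul_assoc]⟩
  have hf : Function.Bijective f := by
    constructor
    · rintro ⟨a, ⟨h, hh⟩⟩ ⟨b, ⟨k, hk⟩⟩ e
      have e' : a.out * (h : G) * a.out⁻¹ = b.out * (k : G) * b.out⁻¹ := congrArg Subtype.val e
      have hab : a.out⁻¹ * b.out ∈ H := by
        refine mem_of_mem_conj hH h.2 (fun h1 => hh (Subtype.ext h1)) ?_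
        have : (a.out⁻¹ * b.out)⁻¹ * (h : G) * (a.out⁻¹ * b.out) = k := by
          calc _ = b.out⁻¹ * (a.out * (h : G) * a.out⁻¹) * b.out := by group
            _ = _ := by rw [e']; group
        rw [this]
        exact k.2
      obtain rfl : a = b := by
        rw [← Quotient.out_eq a, ← Quotient.out_eq b]
        exact QuotientGroup.eq.2 hab
      simp only [mul_left_inj, mul_right_inj] at e'
      exact Prod.ext rfl (Subtype.ext (Subtype.ext e'))
    · rintro ⟨x, hx⟩
      rw [Set.mem_compl_iff, mem_frobeniusKernel] at hx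
      simp only [not_or, not_forall, not_not] at hx
      obtain ⟨hx1, g, hg⟩ := hx
      obtain ⟨c, hc⟩ := QuotientGroup.mk_out_eq_mul H g
      refine ⟨((g : G ⧸ H), ⟨⟨(c : G)⁻¹ * (g⁻¹ * x * g) * c, H.mul_mem (H.mul_mem (H.inv_mem c.2) hg) c.2⟩, ?_⟩), ?_⟩
      · intro h
        have h' : (c : G)⁻¹ * (g⁻¹ * x * g) * c = 1 := congrArg Subtype.val h
        apply hx1
        calc x = g * c * ((c : G)⁻¹ * (g⁻¹ * x * g) * c) * (c : G)⁻¹ * g⁻¹ := by group
          _ = 1 := by rw [h']; group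
      · refine Subtype.ext ?_
        show (g : G ⧸ H).out * _ * (g : G ⧸ H).out⁻¹ = x
        rw [hc]
        group
  have hcard := Nat.card_eq_of_bijective f hf
  have hH1 : Nat.card {h : H // h ≠ 1} = Nat.card H - 1 := by
    have := Fintype.ofFinite H
    rw [Nat.card_eq_fintype_card, Nat.card_eq_fintype_card, Fintype.card_subtype_compl,
      Fintype.card_subtype_eq]
  rw [Nat.card_prod, hH1, ← Subgroup.index_eq_card] at hcard
  have e : (Cfsg.frobeniusKernel H).ncard + (Cfsg.frobeniusKernel H)ᶜ.ncard = Nat.card G :=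
    Set.ncard_add_ncard_compl _
  rw [← Nat.card_coe_set_eq, ← Nat.card_coe_set_eq, ← hcard, ← H.card_mul_index] at e
  have h1 : 1 ≤ Nat.card H := Nat.card_pos
  rw [Nat.mul_sub_one, mul_comm (Nat.card H)] at e
  have h2 : H.index ≤ H.index * Nat.card H := Nat.le_mul_of_pos_right _ h1
  omega

variable [Finite G] {z : G}

/-- Every kernel element is `g z g⁻¹ z`. -/
theorem exists_eq_conj_mul (hH : Cfsg.IsFrobeniusComplement H) (hz : z ∈ H) (hz1 : z ≠ 1)
    (hz2 : z * z = 1) {x : G} (hx : x ∈ Cfsg.frobeniusKernel H) (hx1 : x ≠ 1) :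
    ∃ g : G, g ∉ H ∧ g * z * g⁻¹ * z = x := by
  classical
  have hzi : z⁻¹ = z := inv_eq_of_mul_eq_one_right hz2
  let f : G ⧸ H → Cfsg.frobeniusKernel H := fun c =>
    if hc : c.out ∈ H then ⟨1, Or.inl rfl⟩ else ⟨c.out * z * c.out⁻¹ * z, by
      rw [mem_frobeniusKernel]
      by_contra hk
      simp only [not_or, not_forall, not_not] at hk
      obtain ⟨hk1, a, ha⟩ := hk
      set g := c.out with hg
      set k := g * z * g⁻¹ * z with hkdef
      have hinv : z * k * z = k⁻¹ := by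
        rw [hkdef]
        simp only [mul_inv_rev, inv_inv, hzi]
        calc z * (g * z * g⁻¹ * z) * z = z * (g * z * g⁻¹) * (z * z) := by group
          _ = _ := by rw [hz2]; group
      -- `z` lies in the conjugate of `H` containing `k`
      have h1 : a⁻¹ * z * a ∈ H := by
        refine mem_of_mem_conj hH ha (fun h => hk1 ?_) ?_
        · calc k = a * (a⁻¹ * k * a) * a⁻¹ := by group
            _ = 1 := by rw [h]; group
        · have e : (a⁻¹ * z * a)⁻¹ * (a⁻¹ * k * a) * (a⁻¹ * z * a) = (a⁻¹ * k * a)⁻¹ := by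
            calc _ = a⁻¹ * (z⁻¹ * k * z) * a := by group
              _ = a⁻¹ * k⁻¹ * a := by rw [hzi, hinv]
              _ = _ := by group
          rw [e]
          exact H.inv_mem ha
      have h2 : a ∈ H := mem_of_mem_conj hH hz hz1 h1
      have h3 : k ∈ H := by
        have := H.mul_mem (H.mul_mem h2 ha) (H.inv_mem h2)
        simpa [mul_assoc] using this
      have h4 : g * z * g⁻¹ ∈ H := by
        have := H.mul_mem h3 hz
        rwa [hkdef, mul_assoc, hz2, mul_one] at this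
      exact hc (by simpa using H.inv_mem (mem_of_mem_conj hH hz hz1 (g := g⁻¹) (by simpa using h4)))⟩
  have hcne : ∀ c : G ⧸ H, c.out ∉ H → c.out * z * c.out⁻¹ * z ≠ 1 := by
    intro c hc h
    have h4 : c.out * z * c.out⁻¹ = z := (mul_eq_one_iff_eq_inv.1 h).trans hzi
    exact hc (by simpa using H.inv_mem (mem_of_mem_conj hH hz hz1 (g := c.out⁻¹)
      (by rw [inv_inv, h4]; exact hz)))
  have hinj : Function.Injective f := by
    intro a b e
    have heq : ∀ a : G ⧸ H, a.out ∈ H → a = ((1 : G) : G ⧸ H) := fun a ha => by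
      rw [← Quotient.out_eq a]
      exact QuotientGroup.eq.2 (by simpa using H.inv_mem ha)
    by_cases ha : a.out ∈ H <;> by_cases hb : b.out ∈ H <;> simp only [f, ha, hb, dif_pos,
      dif_neg, not_false_iff, Subtype.ext_iff] at e
    · rw [heq a ha, heq b hb]
    · exact absurd e.symm (hcne b hb)
    · exact absurd e (hcne a ha)
    · rw [mul_left_inj] at e
      rw [← Quotient.out_eq a, ← Quotient.out_eq b]
      refine QuotientGroup.eq.2 (mem_of_mem_conj hH hz hz1 ?_)
      have : (a.out⁻¹ * b.out)⁻¹ * z * (a.out⁻¹ * b.out) = z := by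
        calc _ = b.out⁻¹ * (a.out * z * a.out⁻¹) * b.out := by group
          _ = _ := by rw [e]; group
      rw [this]
      exact hz
  have hbij : Function.Bijective f :=
    (Nat.bijective_iff_injective_and_card f).2 ⟨hinj, by
      rw [card_frobeniusKernel hH, Subgroup.index_eq_card]⟩
  obtain ⟨c, hc⟩ := hbij.2 ⟨x, hx⟩
  by_cases hcH : c.out ∈ H
  · simp only [f, dif_pos hcH, Subtype.ext_iff] at hc
    exact absurd hc.symm hx1
  · simp only [f, dif_neg hcH, Subtype.ext_iff] at hc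
    exact ⟨c.out, hcH, hc⟩

/-- An involution of the complement inverts the kernel. -/
theorem invert (hH : Cfsg.IsFrobeniusComplement H) (hz : z ∈ H) (hz1 : z ≠ 1) (hz2 : z * z = 1)
    {x : G} (hx : x ∈ Cfsg.frobeniusKernel H) : z * x * z⁻¹ = x⁻¹ := by
  have hzi : z⁻¹ = z := inv_eq_of_mul_eq_one_right hz2
  by_cases hx1 : x = 1
  · simp [hx1]
  obtain ⟨g, -, rfl⟩ := exists_eq_conj_mul hH hz hz1 hz2 hx hx1
  simp only [mul_inv_rev, inv_inv, hzi]
  calc z * (g * z * g⁻¹ * z) * z = z * (g * z * g⁻¹) * (z * z) := by group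
    _ = _ := by rw [hz2]; group

/-- So does every conjugate of it. -/
theorem invert_conj (hH : Cfsg.IsFrobeniusComplement H) (hz : z ∈ H) (hz1 : z ≠ 1)
    (hz2 : z * z = 1) (g : G) {x : G} (hx : x ∈ Cfsg.frobeniusKernel H) :
    (g * z * g⁻¹) * x * (g * z * g⁻¹)⁻¹ = x⁻¹ := by
  have h := invert hH hz hz1 hz2 (conj_mem_frobeniusKernel hx g⁻¹)
  rw [inv_inv] at h
  calc (g * z * g⁻¹) * x * (g * z * g⁻¹)⁻¹ = g * (z * (g⁻¹ * x * g) * z⁻¹) * g⁻¹ := by group
    _ = x⁻¹ := by rw [h]; group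

theorem kernel_comm (hH : Cfsg.IsFrobeniusComplement H) (hz : z ∈ H) (hz1 : z ≠ 1)
    (hz2 : z * z = 1) {x y : G} (hx : x ∈ Cfsg.frobeniusKernel H)
    (hy : y ∈ Cfsg.frobeniusKernel H) : x * y = y * x := by
  by_cases hx1 : x = 1
  · simp [hx1]
  obtain ⟨g, -, rfl⟩ := exists_eq_conj_mul hH hz hz1 hz2 hx hx1
  have hyinv : y⁻¹ ∈ Cfsg.frobeniusKernel H := by
    rw [← invert hH hz hz1 hz2 hy]
    exact conj_mem_frobeniusKernel hy z
  have h1 := invert_conj hH hz hz1 hz2 g hyinv
  have h2 := invert hH hz hz1 hz2 hy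
  rw [inv_inv] at h1
  have h : g * z * g⁻¹ * z * y * (g * z * g⁻¹ * z)⁻¹ = y := by
    calc _ = (g * z * g⁻¹) * (z * y * z⁻¹) * (g * z * g⁻¹)⁻¹ := by group
      _ = y := by rw [h2, h1]
  exact mul_inv_eq_iff_eq_mul.1 h

/-- The involution is central in the complement, hence is the only involution there. -/
theorem eq_of_involution (hH : Cfsg.IsFrobeniusComplement H) (hz : z ∈ H) (hz1 : z ≠ 1)
    (hz2 : z * z = 1) {w : G} (hw : w ∈ H) (hw1 : w ≠ 1) (hw2 : w * w = 1) : w = z := by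
  by_contra hne
  obtain ⟨x, hx, hx1⟩ : ∃ x ∈ Cfsg.frobeniusKernel H, x ≠ 1 := by
    have h1 : 1 < (Cfsg.frobeniusKernel H).ncard := by
      rw [← Nat.card_coe_set_eq, card_frobeniusKernel hH]
      exact Subgroup.one_lt_index_of_ne_top hH.2.1
    exact Set.exists_ne_of_one_lt_ncard h1 1
  have hxi : x⁻¹ ∈ Cfsg.frobeniusKernel H := by
    rw [← invert hH hz hz1 hz2 hx]
    exact conj_mem_frobeniusKernel hx z
  have h1 := invert hH hw hw1 hw2 hxi
  have h2 := invert hH hz hz1 hz2 hx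
  rw [inv_inv] at h1
  have hfix : w * z * x * (w * z)⁻¹ = x := by
    calc _ = w * (z * x * z⁻¹) * w⁻¹ := by group
      _ = x := by rw [h2, h1]
  have hwz : w * z ≠ 1 := fun h => hne ((mul_eq_one_iff_eq_inv.1 h).trans
    (inv_eq_of_mul_eq_one_right hz2))
  have hxH : x ∈ H := by
    refine mem_of_mem_conj hH (H.mul_mem hw hz) hwz ?_
    have e : x⁻¹ * (w * z) * x = w * z := by
      calc x⁻¹ * (w * z) * x = x⁻¹ * (w * z * x * (w * z)⁻¹) * (w * z) := by group
        _ = w * z := by rw [hfix]; group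
    rw [e]
    exact H.mul_mem hw hz
  rcases mem_frobeniusKernel.1 hx with h | h
  · exact hx1 h
  · exact h 1 (by simpa using hxH)

theorem mul_mem_kernel (hH : Cfsg.IsFrobeniusComplement H) (hz : z ∈ H) (hz1 : z ≠ 1)
    (hz2 : z * z = 1) {x y : G} (hx : x ∈ Cfsg.frobeniusKernel H)
    (hy : y ∈ Cfsg.frobeniusKernel H) : x * y ∈ Cfsg.frobeniusKernel H := by
  by_cases hx1 : x = 1
  · simpa [hx1] using hy
  by_cases hy1 : y = 1
  · simpa [hy1] using hx
  have hzi : z⁻¹ = z := inv_eq_of_mul_eq_one_right hz2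
  rw [mem_frobeniusKernel]
  by_contra hc
  simp only [not_or, not_forall, not_not] at hc
  obtain ⟨hk1, a, ha⟩ := hc
  have hcomm := kernel_comm hH hz hz1 hz2 hx hy
  have hinv : z * (x * y) * z⁻¹ = (x * y)⁻¹ := by
    calc _ = (z * x * z⁻¹) * (z * y * z⁻¹) := by group
      _ = _ := by rw [invert hH hz hz1 hz2 hx, invert hH hz hz1 hz2 hy, ← mul_inv_rev, ← hcomm]
  have hxk : x⁻¹ * (x * y) * x = x * y := by rw [inv_mul_cancel_left, hcomm]
  -- `x` and `z` normalise the conjugate of `H` containing `x * y`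
  have hne : a⁻¹ * (x * y) * a ≠ 1 := fun h => hk1 (by
    calc x * y = a * (a⁻¹ * (x * y) * a) * a⁻¹ := by group
      _ = 1 := by rw [h]; group)
  have hxa : a⁻¹ * x * a ∈ H := by
    refine mem_of_mem_conj hH ha hne ?_
    have e : (a⁻¹ * x * a)⁻¹ * (a⁻¹ * (x * y) * a) * (a⁻¹ * x * a) = a⁻¹ * (x * y) * a := by
      calc _ = a⁻¹ * (x⁻¹ * (x * y) * x) * a := by group
        _ = _ := by rw [hxk]
    rw [e]
    exact ha
  rcases mem_frobeniusKernel.1 hx with h | h
  · exact hx1 h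
  · exact h a hxa

/-- The Frobenius kernel of a complement of even order, as a subgroup. -/
def kernelSubgroup (hH : Cfsg.IsFrobeniusComplement H) (hz : z ∈ H) (hz1 : z ≠ 1)
    (hz2 : z * z = 1) : Subgroup G where
  carrier := Cfsg.frobeniusKernel H
  one_mem' := Or.inl rfl
  mul_mem' := mul_mem_kernel hH hz hz1 hz2
  inv_mem' {x} hx := by
    rw [← invert hH hz hz1 hz2 hx]
    exact conj_mem_frobeniusKernel hx z

end CfsgLib.FrobRealize.Kernel
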