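import Cfsg.Agent.Lib.FrobRealize.FixedPointFree
import Cfsg.Agent.Lib.Coprime.SchurZassenhaus
import Cfsg.Agent.Lib.Coprime.Sylow
import Mathlib.GroupTheory.SpecificGroups.ZGroup

/-!
# Frobenius complements are conjugate
-/

set_option autoImplicit false

namespace CfsgLib.FrobRealize.Conjugate

open Subgroup
open scoped Pointwise

variable {G : Type*} [Group G] [Finite G]

/-- A Frobenius group cannot act fixed-point-freely on a nontrivial abelian group. -/
theorem false_of_frobenius_fpf {A V B C : Subgroup G} [IsMulCommutative V] (hV : V ≠ ⊥)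
    (hAV : A ≤ normalizer (V : Set G)) (hfpf : ∀ a ∈ A, a ≠ 1 → V ⊓ centralizer {a} = ⊥)
    (hBA : B ≤ A) (hCA : C ≤ A) (hB : B ≠ ⊥) (hC : C ≠ ⊥) (hCB : C ≤ normalizer (B : Set G))
    (hCfpf : ∀ c ∈ C, c ≠ 1 → B ⊓ centralizer {c} = ⊥) : False := by
  classical
  have := Fintype.ofFinite G
  have hVc : ∀ u v : V, u * v = v * u := fun u v => mul_comm' u v
  let _ : CommGroup V := { (inferInstance : Group V) with mul_comm := hVc }
  let φ : A →* AddMonoid.End (Additive V) :=
    { toFun := fun g => MonoidHom.toAdditive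
        (Subgroup.normalizerMonoidHom V (inclusion hAV g)).toMonoidHom
      map_one' := by
        refine AddMonoidHom.ext fun v => ?_
        apply Additive.toMul.injective
        refine Subtype.ext ?_
        show (1 : G) * ((Additive.toMul v : V) : G) * (1 : G)⁻¹ = ((Additive.toMul v : V) : G)
        simp
      map_mul' := fun g h => by
        refine AddMonoidHom.ext fun v => ?_
        apply Additive.toMul.injective
        refine Subtype.ext ?_
        show ((g : G) * h) * ((Additive.toMul v : V) : G) * ((g : G) * h)⁻¹ =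
          (g : G) * ((h : G) * ((Additive.toMul v : V) : G) * (h : G)⁻¹) * (g : G)⁻¹
        group }
  -- sums over a nontrivial subgroup vanish
  have hzero : ∀ (D : Subgroup A), D ≠ ⊥ → ∀ v : Additive V,
      ∑ d : D, φ (d : A) v = 0 := by
    intro D hD v
    obtain ⟨⟨d, hd⟩, hd1⟩ := ne_bot_iff_exists_ne_one.1 hD
    set S := ∑ e : D, φ (e : A) v with hS
    have hfix : φ d S = S := by
      rw [hS, map_sum]
      refine Fintype.sum_equiv (Equiv.mulLeft (⟨d, hd⟩ : D)) _ _ fun e => ?_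
      show φ d (φ (e : A) v) = φ (d * (e : A)) v
      rw [map_mul]
      rfl
    have h2 : (d : G) * ((Additive.toMul S : V) : G) * (d : G)⁻¹ = (Additive.toMul S : V) :=
      congrArg (fun w : Additive V => ((Additive.toMul w : V) : G)) hfix
    have h3 : ((Additive.toMul S : V) : G) ∈ V ⊓ centralizer {(d : G)} :=
      mem_inf.2 ⟨(Additive.toMul S : V).2,
        mem_centralizer_singleton_iff.2 (mul_inv_eq_iff_eq_mul.1 h2).symm⟩
    rw [hfpf _ d.2 (fun h => hd1 (Subtype.ext (Subtype.ext h))), mem_bot] at h3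
    exact Additive.toMul.injective (Subtype.ext h3)
  set B' := B.subgroupOf A with hB'
  set C' := C.subgroupOf A with hC'
  have hB'1 : B' ≠ ⊥ := fun h => hB (by
    rw [← Subgroup.map_subgroupOf_eq_of_le hBA, ← hB', h, Subgroup.map_bot])
  have hC'1 : C' ≠ ⊥ := fun h => hC (by
    rw [← Subgroup.map_subgroupOf_eq_of_le hCA, ← hC', h, Subgroup.map_bot])
  refine hV ((Subgroup.eq_bot_iff_forall _).2 fun v hv => ?_)
  set w : Additive V := Additive.ofMul ⟨v, hv⟩ with hw
  have hsum : ∑ c : C', ∑ b : B', φ ((b : A) * c * (b : A)⁻¹) w = 0 := by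
    rw [Finset.sum_comm]
    refine Finset.sum_eq_zero fun b _ => ?_
    have h := hzero C' hC'1 (φ ((b : A)⁻¹) w)
    have h2 := congrArg (φ (b : A)) h
    rw [map_zero, map_sum] at h2
    rw [← h2]
    refine Finset.sum_congr rfl fun c _ => ?_
    rw [map_mul, map_mul]
    rfl
  rw [Finset.sum_eq_single (1 : C')] at hsum
  · simp only [OneMemClass.coe_one, mul_one, mul_inv_cancel, map_one, Finset.sum_const,
      Finset.card_univ, ← Nat.card_eq_fintype_card] at hsum
    have h1 : Nat.card B' • w = 0 := hsum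
    have h2 : (⟨v, hv⟩ : V) ^ Nat.card B' = 1 := congrArg Additive.toMul h1
    have h5 : (Nat.card B').Coprime (Nat.card V) :=
      Nat.Coprime.coprime_dvd_left (card_subgroup_dvd_card B') (FPF.coprime_card hAV hfpf)
    exact congrArg Subtype.val (orderOf_eq_one_iff.1
      (Nat.eq_one_of_dvd_coprimes h5 (orderOf_dvd_of_pow_eq_one h2) (orderOf_dvd_natCard _)))
  · intro c _ hc
    have hcC : ((c : A) : G) ∈ C := c.2
    have hmem : ∀ b : B', (b : A) * c * (b : A)⁻¹ * (c : A)⁻¹ ∈ B' := fun b => by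
      refine mem_subgroupOf.2 ?_
      have h1 : ((c : A) : G) * ((b : A) : G)⁻¹ * ((c : A) : G)⁻¹ ∈ B :=
        (mem_normalizer_iff.1 (hCB hcC) _).1 (inv_mem b.2)
      have hb : ((b : A) : G) ∈ B := mem_subgroupOf.1 b.2
      have h2 := mul_mem hb h1
      simpa [mul_assoc] using h2
    let f : B' → B' := fun b => ⟨_, hmem b⟩
    have hf : Function.Bijective f := Finite.injective_iff_bijective.1 fun a b hab => by
      have e : (a : A) * c * (a : A)⁻¹ * (c : A)⁻¹ = (b : A) * c * (b : A)⁻¹ * (c : A)⁻¹ :=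
        congrArg Subtype.val hab
      rw [mul_left_inj] at e
      have h1 : ((((b⁻¹ * a : B') : A) : G)) ∈ B ⊓ centralizer {((c : A) : G)} := by
        refine mem_inf.2 ⟨(b⁻¹ * a : B').2, mem_centralizer_singleton_iff.2 ?_⟩
        have e2 : (b : A)⁻¹ * (a : A) * c = c * ((b : A)⁻¹ * (a : A)) := by
          calc (b : A)⁻¹ * (a : A) * c = (b : A)⁻¹ * ((a : A) * c * (a : A)⁻¹) * a := by group
            _ = _ := by rw [e]; group
        exact congrArg Subtype.val e2
      rw [hCfpf _ hcC (fun h => hc (Subtype.ext (Subtype.ext h))), mem_bot] at h1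
      exact (inv_mul_eq_one.1 (Subtype.ext (Subtype.ext h1) : b⁻¹ * a = 1)).symm
    calc ∑ b : B', φ ((b : A) * c * (b : A)⁻¹) w
        = ∑ b : B', φ ((f b : B') : A) (φ (c : A) w) := by
          refine Finset.sum_congr rfl fun b _ => ?_
          show φ ((b : A) * c * (b : A)⁻¹) w =
            φ ((b : A) * c * (b : A)⁻¹ * (c : A)⁻¹) (φ (c : A) w)
          conv_lhs => rw [← inv_mul_cancel_right ((b : A) * c * (b : A)⁻¹) (c : A), map_mul]
          rfl
      _ = ∑ b : B', φ ((b : B') : A) (φ (c : A) w) :=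
          hf.sum_comp (fun b => φ ((b : B') : A) (φ (c : A) w))
      _ = 0 := hzero B' hB'1 _
  · intro h
    exact absurd (Finset.mem_univ _) h

variable {H H₀ : Subgroup G}

/-- A complement of odd order is solvable. -/
theorem isSolvable_of_odd (hH : Cfsg.IsFrobeniusComplement H) (hodd : ¬ 2 ∣ Nat.card H) :
    Group.IsSolvable H := by
  obtain ⟨N, -, hN1, hHN, hfpf, -, -⟩ := FPF.exists_fpf_kernel hH
  have : IsZGroup H := ⟨fun p hp P => by
    have := Fact.mk hp
    rcases FPF.sylow_cyclic_or_quaternion hN1 hHN hfpf P with h | ⟨rfl, n, ⟨e⟩⟩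
    · exact h
    · exfalso
      refine hodd (Dvd.dvd.trans ?_ (card_subgroup_dvd_card (P : Subgroup H)))
      rw [Nat.card_congr e.toEquiv, Nat.card_eq_fintype_card, QuaternionGroup.card]
      omega⟩
  infer_instance

/-- The kernel is abelian when the complement has even order. -/
theorem kernel_comm_of_even (hH : Cfsg.IsFrobeniusComplement H) (h2 : 2 ∣ Nat.card H)
    {N : Subgroup G} (hset : (N : Set G) = Cfsg.frobeniusKernel H) :
    ∀ a ∈ N, ∀ b ∈ N, a * b = b * a := by
  obtain ⟨z, hz⟩ := exists_prime_orderOf_dvd_card' 2 h2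
  have hz2 : (z : G) * z = 1 := by
    have := pow_orderOf_eq_one z
    rw [hz, pow_two] at this
    exact congrArg Subtype.val this
  have hz1 : (z : G) ≠ 1 := fun h => by
    rw [show z = 1 from Subtype.ext h, orderOf_one] at hz
    omega
  intro a ha b hb
  exact Kernel.kernel_comm hH z.2 hz1 hz2 (hset ▸ ha) (hset ▸ hb)

/-- A normal subgroup contains the kernel or lies in it. -/
theorem normal_le_or_ge (hH : Cfsg.IsFrobeniusComplement H) {N M : Subgroup G}
    (hset : (N : Set G) = Cfsg.frobeniusKernel H) (hN : N.Normal) (hM : M.Normal)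
    (hHN : ∀ a ∈ H, a ≠ 1 → N ⊓ centralizer {a} = ⊥) : N ≤ M ∨ M ≤ N := by
  refine or_iff_not_imp_right.2 fun hle => ?_
  obtain ⟨m, hm, hmN⟩ := SetLike.not_le_iff_exists.1 hle
  rw [← SetLike.mem_coe, hset, Kernel.mem_frobeniusKernel] at hmN
  simp only [not_or, not_forall, not_not] at hmN
  obtain ⟨hm1, g, hg⟩ := hmN
  set c := g⁻¹ * m * g with hc
  have hcM : c ∈ M := by simpa [hc, mul_assoc] using hM.conj_mem m hm g⁻¹
  have hc1 : c ≠ 1 := fun h => hm1 (by
    calc m = g * c * g⁻¹ := by rw [hc]; group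
      _ = 1 := by rw [h]; group)
  let f : N → N := fun n => ⟨(n : G) * c * (n : G)⁻¹ * c⁻¹, by
    have h1 := hN.conj_mem _ (inv_mem n.2) c
    have h2 := N.mul_mem n.2 h1
    simpa [mul_assoc] using h2⟩
  have hf : Function.Bijective f := Finite.injective_iff_bijective.1 fun a b hab => by
    have e : (a : G) * c * (a : G)⁻¹ * c⁻¹ = (b : G) * c * (b : G)⁻¹ * c⁻¹ :=
      congrArg Subtype.val hab
    rw [mul_left_inj] at e
    have h1 : ((b : G)⁻¹ * a) ∈ N ⊓ centralizer {c} := by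
      refine mem_inf.2 ⟨mul_mem (inv_mem b.2) a.2, mem_centralizer_singleton_iff.2 ?_⟩
      calc (b : G)⁻¹ * a * c = (b : G)⁻¹ * ((a : G) * c * (a : G)⁻¹) * a := by group
        _ = _ := by rw [e]; group
    rw [hHN c hg hc1, mem_bot] at h1
    exact Subtype.ext (inv_mul_eq_one.1 h1).symm
  intro x hx
  obtain ⟨n, hn⟩ := hf.2 ⟨x, hx⟩
  rw [← show ((f n : N) : G) = x from congrArg Subtype.val hn]
  exact mul_mem (hM.conj_mem c hcM n) (inv_mem hcM)

theorem exists_conj_le (hH : Cfsg.IsFrobeniusComplement H) (hH₀ : Cfsg.IsFrobeniusComplement H₀)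
    (hle : Nat.card H₀ ≤ Nat.card H) : ∃ g : G, MulAut.conj g • H₀ ≤ H := by
  obtain ⟨N, hNn, hN1, hHN, hfpf, hcompl, hset⟩ := FPF.exists_fpf_kernel hH
  obtain ⟨N₀, hN₀n, hN₀1, hHN₀, hfpf₀, hcompl₀, hset₀⟩ := FPF.exists_fpf_kernel hH₀
  have := hNn
  have hc : Nat.card N * Nat.card H = Nat.card N₀ * Nat.card H₀ :=
    hcompl.card_mul.trans hcompl₀.card_mul.symm
  have hNN₀ : N ≤ N₀ := by
    rcases normal_le_or_ge hH hset hNn hN₀n hfpf with h | h
    · exact h
    · refine (eq_of_le_of_card_ge h ?_).ge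
      by_contra hlt
      have h1 := Nat.mul_le_mul_left (Nat.card N₀) hle
      have h2 : 0 < Nat.card H := Nat.card_pos
      nlinarith
  have hcop₀ : (Nat.card N).Coprime (Nat.card H₀) :=
    Nat.Coprime.coprime_dvd_left (card_dvd_of_le hNN₀) (FPF.coprime_card hHN₀ hfpf₀).symm
  have hdvd : Nat.card H₀ ∣ Nat.card H :=
    hcop₀.symm.dvd_of_dvd_mul_left (hc ▸ Dvd.intro_left _ rfl)
  have hH₀N : H₀ ≤ normalizer (N : Set G) := by rw [normalizer_eq_top]; exact le_top
  have hdis : Disjoint N H₀ := disjoint_iff.2 (inf_eq_bot_of_coprime hcop₀)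
  set V := (N ⊔ H₀) ⊓ H with hV
  have hVN : V ≤ normalizer (N : Set G) := inf_le_right.trans hHN
  have hsup : H₀ ≤ N ⊔ V := by
    intro x hx
    obtain ⟨⟨n, h⟩, hnh⟩ := hcompl.2 x
    rw [← hnh]
    refine mul_mem_sup n.2 (mem_inf.2 ⟨?_, h.2⟩)
    have : (h : G) = (n : G)⁻¹ * x := by rw [← hnh]; simp [mul_assoc]
    rw [this]
    exact mul_mem (mem_sup_left (inv_mem n.2)) (mem_sup_right hx)
  have hcard : Nat.card H₀ = Nat.card V := by
    have e : N ⊔ V = N ⊔ H₀ :=
      le_antisymm (sup_le le_sup_left inf_le_left) (sup_le le_sup_left hsup)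
    have h1 := CfsgLib.Coprime.card_sup_of_le_normalizer hH₀N hdis
    rw [← e, CfsgLib.Coprime.card_sup_of_le_normalizer hVN
      (hcompl.disjoint.mono_right inf_le_right)] at h1
    exact (Nat.eq_of_mul_eq_mul_left Nat.card_pos h1).symm
  have hsolv : Group.IsSolvable N ∨ Group.IsSolvable H₀ := by
    by_cases h2 : 2 ∣ Nat.card H
    · exact Or.inl (Group.isSolvable_of_comm fun a b =>
        Subtype.ext (kernel_comm_of_even hH h2 hset a a.2 b b.2))
    · exact Or.inr (isSolvable_of_odd hH₀ fun h => h2 (h.trans hdvd))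
  obtain ⟨n, -, hn⟩ := CfsgLib.Coprime.exists_conj_eq hsolv hH₀N hVN hsup hcard hcop₀
  exact ⟨n, (le_of_eq hn).trans inf_le_right⟩

theorem eq_of_le (hH : Cfsg.IsFrobeniusComplement H) (hH₀ : Cfsg.IsFrobeniusComplement H₀)
    (hle : H₀ ≤ H) : H₀ = H := by
  by_contra hne
  set K := H₀.subgroupOf H with hK
  have hKc : Cfsg.IsFrobeniusComplement K := by
    refine ⟨fun h => hH₀.1 ?_, fun h => hne (le_antisymm hle (subgroupOf_eq_top.1 h)),
      fun g hg => ?_⟩
    · rw [← map_subgroupOf_eq_of_le hle, ← hK, h, Subgroup.map_bot]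
    · rw [eq_bot_iff]
      intro x hx
      obtain ⟨hx1, hx2⟩ := mem_inf.1 hx
      rw [Kernel.mem_conj_smul] at hx2
      have h : (x : G) ∈ H₀ ⊓ MulAut.conj (g : G) • H₀ :=
        mem_inf.2 ⟨hx1, Kernel.mem_conj_smul.2 hx2⟩
      rw [hH₀.2.2 (g : G) (fun h => hg h), mem_bot] at h
      exact mem_bot.2 (Subtype.ext h)
  obtain ⟨N₁, -, hN₁1, hKN₁, hfpf₁, -, -⟩ := FPF.exists_fpf_kernel hKc
  obtain ⟨N, hNn, hN1, hHN, hfpf, hcompl, hset⟩ := FPF.exists_fpf_kernel hH
  have := hNn
  obtain ⟨V, hV1, hVN, hHV, hVc⟩ : ∃ V : Subgroup G, V ≠ ⊥ ∧ V ≤ N ∧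
      H ≤ normalizer (V : Set G) ∧ ∀ a ∈ V, ∀ b ∈ V, a * b = b * a := by
    by_cases h2 : 2 ∣ Nat.card H
    · exact ⟨N, hN1, le_rfl, hHN, kernel_comm_of_even hH h2 hset⟩
    · obtain ⟨r, hr, hrd⟩ := Nat.exists_prime_and_dvd (n := Nat.card N)
        (fun h => hN1 (eq_bot_of_card_eq N h))
      have := Fact.mk hr
      obtain ⟨R, hR⟩ := CfsgLib.Coprime.exists_invariant_sylow hHN
        (FPF.coprime_card hHN hfpf) (Or.inl (isSolvable_of_odd hH h2)) r
      set R' := (R : Subgroup N).map N.subtype with hR'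
      refine ⟨(center R').map R'.subtype, ?_, (map_subtype_le _).trans (map_subtype_le _), ?_, ?_⟩
      · intro h
        have : Nontrivial R' := by
          rw [nontrivial_iff_ne_bot, ← one_lt_card_iff_ne_bot, hR',
            CfsgLib.Coprime.card_map_subtype, R.card_eq_multiplicity]
          exact Nat.one_lt_pow (hr.factorization_pos_of_dvd Nat.card_pos.ne' hrd).ne' hr.one_lt
        have := (R.isPGroup'.map N.subtype).center_nontrivial
        obtain ⟨⟨c, hc⟩, hc1⟩ := exists_ne (1 : center R')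
        have hmem : (c : G) ∈ (center R').map R'.subtype := mem_map_of_mem _ hc
        rw [h, mem_bot] at hmem
        exact hc1 (Subtype.ext (Subtype.ext hmem))
      · intro g hg
        refine CfsgLib.Coprime.mem_normalizer_of_conj_map_le ?_
        rintro _ ⟨c, hc, rfl⟩
        have hgR := hR hg
        refine ⟨⟨g * c * g⁻¹, (mem_normalizer_iff.1 hgR c).1 c.2⟩,
          mem_center_iff.2 fun y => Subtype.ext ?_, rfl⟩
        show (y : G) * (g * c * g⁻¹) = g * c * g⁻¹ * y
        have hy : g⁻¹ * (y : G) * g ∈ R' := by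
          simpa using (mem_normalizer_iff.1 (inv_mem hgR) y).1 y.2
        have h : (g⁻¹ * (y : G) * g) * c = c * (g⁻¹ * (y : G) * g) :=
          congrArg Subtype.val (mem_center_iff.1 hc ⟨_, hy⟩)
        calc (y : G) * (g * c * g⁻¹) = g * ((g⁻¹ * (y : G) * g) * c) * g⁻¹ := by group
          _ = _ := by rw [h]; group
      · rintro _ ⟨a, ha, rfl⟩ _ ⟨b, hb, rfl⟩
        exact congrArg Subtype.val (mem_center_iff.1 hb a)
  have : IsMulCommutative V :=
    IsMulCommutative.of_comm fun a b => Subtype.ext (hVc a a.2 b b.2)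
  have hfpfV : ∀ a ∈ H, a ≠ 1 → V ⊓ centralizer {a} = ⊥ := fun a ha ha1 =>
    eq_bot_iff.2 ((inf_le_inf_right _ hVN).trans (hfpf a ha ha1).le)
  refine false_of_frobenius_fpf hV1 hHV hfpfV (map_subtype_le N₁) (map_subtype_le K) ?_ ?_ ?_ ?_
  · rw [Ne, map_eq_bot_iff_of_injective _ H.subtype_injective]
    exact hN₁1
  · rw [Ne, map_eq_bot_iff_of_injective _ H.subtype_injective]
    exact hKc.1
  · rintro _ ⟨c, hc, rfl⟩
    refine CfsgLib.Coprime.mem_normalizer_of_conj_map_le ?_
    rintro _ ⟨n, hn, rfl⟩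
    exact ⟨c * n * c⁻¹, (mem_normalizer_iff.1 (hKN₁ hc) n).1 hn, rfl⟩
  · rintro _ ⟨c, hc, rfl⟩ hc1
    rw [eq_bot_iff]
    intro x hx
    obtain ⟨⟨n, hn, rfl⟩, hx2⟩ := mem_inf.1 hx
    have h : n ∈ N₁ ⊓ centralizer {c} := mem_inf.2 ⟨hn, mem_centralizer_singleton_iff.2
      (Subtype.ext (mem_centralizer_singleton_iff.1 hx2))⟩
    rw [hfpf₁ c hc (fun h => hc1 (by rw [h]; rfl)), mem_bot] at h
    rw [h]
    exact mem_bot.2 rfl

theorem conj_isFrobeniusComplement (hH : Cfsg.IsFrobeniusComplement H) (g : G) :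
    Cfsg.IsFrobeniusComplement (MulAut.conj g • H) := by
  refine ⟨fun h => hH.1 ?_, fun h => hH.2.1 ?_, fun x hx => ?_⟩
  · rw [← inv_smul_smul (MulAut.conj g) H, h, Subgroup.smul_bot]
  · rw [eq_top_iff]
    intro a _
    have : g * a * g⁻¹ ∈ MulAut.conj g • H := h ▸ mem_top _
    rw [Kernel.mem_conj_smul] at this
    simpa [mul_assoc] using this
  · have hx' : g⁻¹ * x * g ∉ H := fun h => hx (Kernel.mem_conj_smul.2 h)
    have := hH.2.2 _ hx'
    rw [eq_bot_iff]
    intro y hy
    obtain ⟨h1, h2⟩ := mem_inf.1 hy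
    rw [Kernel.mem_conj_smul] at h1
    rw [Kernel.mem_conj_smul, Kernel.mem_conj_smul] at h2
    have h3 : g⁻¹ * y * g ∈ H ⊓ MulAut.conj (g⁻¹ * x * g) • H := by
      refine mem_inf.2 ⟨h1, Kernel.mem_conj_smul.2 ?_⟩
      convert h2 using 1
      group
    rw [this, mem_bot] at h3
    refine mem_bot.2 ?_
    calc y = g * (g⁻¹ * y * g) * g⁻¹ := by group
      _ = 1 := by rw [h3]; group

theorem isConj (hH : Cfsg.IsFrobeniusComplement H) (hH₀ : Cfsg.IsFrobeniusComplement H₀) :
    ∃ g : G, MulAut.conj g • H₀ = H := by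
  rcases le_total (Nat.card H₀) (Nat.card H) with h | h
  · obtain ⟨g, hg⟩ := exists_conj_le hH hH₀ h
    exact ⟨g, eq_of_le hH (conj_isFrobeniusComplement hH₀ g) hg⟩
  · obtain ⟨g, hg⟩ := exists_conj_le hH₀ hH h
    refine ⟨g⁻¹, ?_⟩
    rw [← eq_of_le hH₀ (conj_isFrobeniusComplement hH g) hg, smul_smul, ← map_mul, inv_mul_cancel,
      map_one, one_smul]

end CfsgLib.FrobRealize.Conjugate
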