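import Cfsg.Prelude.Def_Solvable
import Mathlib.GroupTheory.SemidirectProduct
import Mathlib.LinearAlgebra.Matrix.SpecialLinearGroup
import Mathlib.LinearAlgebra.Matrix.ToLinearEquiv
import Mathlib.LinearAlgebra.Matrix.Determinant.Basic
import Mathlib.Data.ZMod.Basic
import Mathlib.Algebra.Field.ZMod
import Mathlib.GroupTheory.OrderOfElement
import Mathlib.Tactic.LinearCombination
import Mathlib.Tactic.FinCases
import Mathlib.Tactic.Abel

/-!
# Realising groups as Frobenius complements

* `isFrobeniusComplement_inr`: in `N ⋊ H` with a fixed-point-free action, `H` is a Frobenius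
  complement.
* `exists_frobenius_of_sl2`: a nontrivial `p'`-subgroup of `SL(2, p)` is a Frobenius complement.
-/

open scoped Pointwise

namespace CfsgLib.FrobRealize

theorem isFrobeniusComplement_inr {N H : Type*} [Group N] [Group H] [Nontrivial N] [Nontrivial H]
    (φ : H →* MulAut N) (hfpf : ∀ h : H, h ≠ 1 → ∀ v : N, φ h v = v → v = 1) :
    Cfsg.IsFrobeniusComplement (SemidirectProduct.inr : H →* N ⋊[φ] H).range := by
  refine ⟨?_, ?_, ?_⟩
  · obtain ⟨h, hh⟩ := exists_ne (1 : H)
    intro hb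
    have hmem : (SemidirectProduct.inr h : N ⋊[φ] H) ∈
        (SemidirectProduct.inr : H →* N ⋊[φ] H).range := ⟨h, rfl⟩
    rw [hb, Subgroup.mem_bot] at hmem
    exact hh (SemidirectProduct.inr_injective (by rw [hmem, map_one]))
  · obtain ⟨v, hv⟩ := exists_ne (1 : N)
    intro ht
    have hmem : (SemidirectProduct.inl v : N ⋊[φ] H) ∈
        (SemidirectProduct.inr : H →* N ⋊[φ] H).range := ht ▸ Subgroup.mem_top _
    obtain ⟨h, hh⟩ := hmem
    have := congrArg SemidirectProduct.left hh
    simp at this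
    exact hv this.symm
  · intro g hg
    rw [eq_bot_iff]
    rintro x ⟨⟨k, rfl⟩, hx⟩
    obtain ⟨y, ⟨k', rfl⟩, hy⟩ := hx
    have hv : g.left ≠ 1 := fun h => hg ⟨g.right, SemidirectProduct.ext (by simp [h]) rfl⟩
    have he : g * SemidirectProduct.inr k' = SemidirectProduct.inr k * g :=
      mul_inv_eq_iff_eq_mul.1 hy
    have h1 := congrArg SemidirectProduct.left he
    simp at h1
    by_contra hk
    exact hv (hfpf k (fun h => hk (by rw [h, map_one]; exact Subgroup.mem_bot.2 rfl)) _ h1.symm)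

variable {p : ℕ}

/-- A matrix of `SL(2, p)` of order prime to `p` fixing a nonzero vector is trivial. -/
theorem sl2_eq_one_of_fixed [Fact p.Prime] (A : Matrix.SpecialLinearGroup (Fin 2) (ZMod p))
    {m : ℕ} (hAm : A ^ m = 1) (hm : ¬ p ∣ m) (v : Fin 2 → ZMod p) (hv : v ≠ 0)
    (hfix : (A : Matrix (Fin 2) (Fin 2) (ZMod p)).mulVec v = v) : A = 1 := by
  set M : Matrix (Fin 2) (Fin 2) (ZMod p) := (A : Matrix (Fin 2) (Fin 2) (ZMod p)) with hM
  set T := M - 1 with hT
  have hdet : T.det = 0 := by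
    rw [← Matrix.exists_mulVec_eq_zero_iff]
    exact ⟨v, hv, by rw [hT, Matrix.sub_mulVec, hfix, Matrix.one_mulVec, sub_self]⟩
  have hMd : M.det = 1 := A.prop
  rw [Matrix.det_fin_two] at hdet hMd
  have e00 : T 0 0 = M 0 0 - 1 := by simp [hT]
  have e01 : T 0 1 = M 0 1 := by simp [hT]
  have e10 : T 1 0 = M 1 0 := by simp [hT]
  have e11 : T 1 1 = M 1 1 - 1 := by simp [hT]
  have htr : T 0 0 + T 1 1 = 0 := by
    rw [e00, e11, e01, e10] at hdet
    rw [e00, e11]
    linear_combination hMd - hdet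
  have hsq : T * T = 0 := by
    ext i j
    rw [Matrix.mul_apply, Fin.sum_univ_two, Matrix.zero_apply]
    fin_cases i <;> fin_cases j <;> simp
    · linear_combination (T 0 0) * htr - hdet
    · linear_combination (T 0 1) * htr
    · linear_combination (T 1 0) * htr
    · linear_combination (T 1 1) * htr - hdet
  have hpow : ∀ k : ℕ, M ^ k = 1 + k • T := by
    intro k
    induction k with
    | zero => simp
    | succ k ih =>
      have e : M = 1 + T := by rw [hT, add_sub_cancel]
      rw [pow_succ, ih, e, mul_add, mul_one, add_mul, one_mul, smul_mul_assoc, hsq, smul_zero,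
        add_zero, succ_nsmul]
      abel
  have h1 : M ^ m = 1 := by
    rw [hM, ← Matrix.SpecialLinearGroup.coe_pow, hAm, Matrix.SpecialLinearGroup.coe_one]
  rw [hpow, add_eq_left] at h1
  have hT0 : T = 0 := by
    ext i j
    have h2 : (m • T) i j = (0 : Matrix (Fin 2) (Fin 2) (ZMod p)) i j := by rw [h1]
    rw [Matrix.smul_apply, nsmul_eq_mul, Matrix.zero_apply] at h2
    exact (mul_eq_zero.1 h2).resolve_left fun h => hm ((ZMod.natCast_eq_zero_iff _ _).1 h)
  apply Matrix.SpecialLinearGroup.ext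
  intro i j
  rw [← hM, show M = 1 from sub_eq_zero.1 hT0]
  simp

/-- The natural action of `SL(2, p)` on `(ZMod p)²`, written multiplicatively. -/
noncomputable def sl2Act (p : ℕ) : Matrix.SpecialLinearGroup (Fin 2) (ZMod p) →*
    MulAut (Multiplicative (Fin 2 → ZMod p)) where
  toFun A :=
    { toFun := fun v => Multiplicative.ofAdd
        ((A : Matrix (Fin 2) (Fin 2) (ZMod p)).mulVec v.toAdd)
      invFun := fun v => Multiplicative.ofAdd
        ((A⁻¹ : Matrix.SpecialLinearGroup (Fin 2) (ZMod p)).1.mulVec v.toAdd)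
      left_inv := fun v => by
        simp only [toAdd_ofAdd, Matrix.mulVec_mulVec, ← Matrix.SpecialLinearGroup.coe_mul,
          inv_mul_cancel, Matrix.SpecialLinearGroup.coe_one, Matrix.one_mulVec, ofAdd_toAdd]
      right_inv := fun v => by
        simp only [toAdd_ofAdd, Matrix.mulVec_mulVec, ← Matrix.SpecialLinearGroup.coe_mul,
          mul_inv_cancel, Matrix.SpecialLinearGroup.coe_one, Matrix.one_mulVec, ofAdd_toAdd]
      map_mul' := fun v w => by rw [toAdd_mul, Matrix.mulVec_add, ofAdd_add] }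
  map_one' := by
    ext v
    simp
  map_mul' A B := by
    ext v
    simp [Matrix.mulVec_mulVec]

/-- A nontrivial `p'`-subgroup of `SL(2, p)` is a Frobenius complement. -/
theorem exists_frobenius_of_sl2 [Fact p.Prime]
    (S : Subgroup (Matrix.SpecialLinearGroup (Fin 2) (ZMod p))) (hS : S ≠ ⊥)
    (hp : ¬ p ∣ Nat.card S) :
    ∃ (L : Type) (_ : Group L) (_ : Finite L) (H : Subgroup L),
      Cfsg.IsFrobeniusComplement H ∧ Nonempty (S ≃* H) := by
  let φ : S →* MulAut (Multiplicative (Fin 2 → ZMod p)) := (sl2Act p).comp S.subtype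
  have : Nontrivial S := (Subgroup.nontrivial_iff_ne_bot S).2 hS
  refine ⟨Multiplicative (Fin 2 → ZMod p) ⋊[φ] S, inferInstance,
    Finite.of_equiv _ SemidirectProduct.equivProd.symm, SemidirectProduct.inr.range,
    isFrobeniusComplement_inr φ fun h hh v hv => ?_,
    ⟨MonoidHom.ofInjective SemidirectProduct.inr_injective⟩⟩
  by_contra hv1
  refine hh (Subtype.ext (sl2_eq_one_of_fixed (h : Matrix.SpecialLinearGroup (Fin 2) (ZMod p))
    (m := Nat.card S) ?_ hp v.toAdd (fun h0 => hv1 (toAdd_eq_zero.1 h0)) (congrArg Multiplicative.toAdd hv)))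
  rw [← Subgroup.coe_pow, pow_card_eq_one', Subgroup.coe_one]

/-- As `exists_frobenius_of_sl2`, for an injective homomorphism. -/
theorem exists_frobenius_of_hom [Fact p.Prime] {C : Type*} [Group C] [Finite C] [Nontrivial C]
    (f : C →* Matrix.SpecialLinearGroup (Fin 2) (ZMod p)) (hf : Function.Injective f)
    (hp : ¬ p ∣ Nat.card C) :
    ∃ (L : Type) (_ : Group L) (_ : Finite L) (H : Subgroup L),
      Cfsg.IsFrobeniusComplement H ∧ Nonempty (C ≃* H) := by
  have e : C ≃* f.range := MonoidHom.ofInjective hf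
  have hne : f.range ≠ ⊥ := fun h => by
    obtain ⟨c, hc⟩ := exists_ne (1 : C)
    have h1 : f c ∈ f.range := ⟨c, rfl⟩
    rw [h, Subgroup.mem_bot] at h1
    exact hc (hf (by rw [h1, map_one]))
  obtain ⟨L, i1, i2, H, h1, ⟨e'⟩⟩ := exists_frobenius_of_sl2 f.range hne
    (by rwa [← Nat.card_congr e.toEquiv])
  exact ⟨L, i1, i2, H, h1, ⟨e.trans e'⟩⟩

end CfsgLib.FrobRealize
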