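import Cfsg.Agent.Lib.FrobRealize.Kernel
import Cfsg.Agent.Lib.PGroup.Frattini
import Mathlib

/-!
# Kernels of Frobenius groups with a quaternion pair in the complement

If the complement contains `i, j` with `[i, j]` an involution, then the kernel has odd square
order.  A noncyclic Sylow subgroup of a complement provides such a pair.
-/

namespace CfsgLib.FrobRealize.EvenSquare

open Subgroup

variable {G : Type*} [Group G] [Finite G]

theorem even_log_card {r : ℕ} [Fact r.Prime] (hr : r ≠ 2) (W : Subgroup G) (i j z : G)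
    (hc : ∀ a ∈ W, ∀ b ∈ W, a * b = b * a) (hexp : ∀ a ∈ W, a ^ r = 1)
    (hi : ∀ a ∈ W, i * a * i⁻¹ ∈ W) (hj : ∀ a ∈ W, j * a * j⁻¹ ∈ W)
    (hz : ∀ a ∈ W, z * a * z⁻¹ = a⁻¹) (hij : i * j = z * (j * i)) : IsSquare (Nat.card W) := by
  classical
  let _ : CommGroup W := { (inferInstance : Group W) with
    mul_comm := fun a b => Subtype.ext (hc a a.2 b b.2) }
  have hnsmul : ∀ a : Additive W, r • a = 0 := fun a => by
    apply Additive.toMul.injective
    exact Subtype.ext (hexp _ (Additive.toMul a : W).2)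
  let instMod : Module (ZMod r) (Additive W) :=
    AddCommGroup.zmodModule (n := r) (G := Additive W) hnsmul
  let cj : ∀ g : G, (∀ a ∈ W, g * a * g⁻¹ ∈ W) → (Additive W →ₗ[ZMod r] Additive W) := fun g hg =>
    AddMonoidHom.toZModLinearMap r
      { toFun := fun a => Additive.ofMul (⟨g * (a.toMul : G) * g⁻¹, hg _ (a.toMul : W).2⟩ : W)
        map_zero' := by
          apply Additive.toMul.injective
          refine Subtype.ext ?_
          show g * (1 : G) * g⁻¹ = 1
          group
        map_add' := fun a b => by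
          apply Additive.toMul.injective
          refine Subtype.ext ?_
          show g * ((a.toMul : G) * (b.toMul : G)) * g⁻¹ =
            g * (a.toMul : G) * g⁻¹ * (g * (b.toMul : G) * g⁻¹)
          group }
  have hcj : ∀ (g : G) (hg : ∀ a ∈ W, g * a * g⁻¹ ∈ W) (a : Additive W),
      ((Additive.toMul ((cj g hg).toFun a) : W) : G) = g * ((Additive.toMul a : W) : G) * g⁻¹ :=
    fun g hg a => rfl
  simp only [LinearMap.toFun_eq_coe] at hcj
  have hcomm : (cj i hi).comp (cj j hj) = (-1 : ZMod r) • ((cj j hj).comp (cj i hi)) := by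
    refine LinearMap.ext fun a => ?_
    rw [LinearMap.smul_apply, neg_one_smul, LinearMap.comp_apply, LinearMap.comp_apply]
    apply Additive.toMul.injective
    refine Subtype.ext ?_
    rw [toMul_neg, InvMemClass.coe_inv, hcj, hcj, hcj, hcj]
    have e := hz _ (hj _ (hi _ (a.toMul : W).2))
    rw [← e]
    calc i * (j * (a.toMul : G) * j⁻¹) * i⁻¹ = (i * j) * (a.toMul : G) * (i * j)⁻¹ := by group
      _ = z * (j * (i * (a.toMul : G) * i⁻¹) * j⁻¹) * z⁻¹ := by rw [hij]; group
  have hunit : ∀ (g : G) (hg : ∀ a ∈ W, g * a * g⁻¹ ∈ W), LinearMap.det (cj g hg) ≠ 0 := by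
    intro g hg
    have hinj : Function.Injective (cj g hg) := fun a b h => by
      apply Additive.toMul.injective
      refine Subtype.ext ?_
      have h' := congrArg (fun x => ((Additive.toMul x : W) : G)) h
      simp only [hcj] at h'
      simpa using h'
    let e := LinearEquiv.ofInjectiveEndo (cj g hg) hinj
    exact (LinearEquiv.isUnit_det' e).ne_zero
  have h := congrArg LinearMap.det hcomm
  rw [LinearMap.det_smul, LinearMap.det_comp, LinearMap.det_comp, mul_comm (LinearMap.det (cj j hj))] at h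
  have h1 : (-1 : ZMod r) ^ Module.finrank (ZMod r) (Additive W) = 1 :=
    mul_right_cancel₀ (mul_ne_zero (hunit i hi) (hunit j hj)) (by rw [one_mul]; exact h.symm)
  have hev : Even (Module.finrank (ZMod r) (Additive W)) := by
    rw [← Nat.not_odd_iff_even]
    intro hodd
    rw [hodd.neg_one_pow] at h1
    have h2 : ((2 : ℕ) : ZMod r) = 0 := by
      push_cast
      linear_combination (-1 : ZMod r) * h1
    rw [ZMod.natCast_eq_zero_iff] at h2
    exact hr ((Nat.prime_dvd_prime_iff_eq Fact.out Nat.prime_two).1 h2)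
  obtain ⟨m, hm⟩ := hev
  refine ⟨r ^ m, ?_⟩
  rw [← pow_add, ← hm, show Nat.card W = Nat.card (Additive W) from rfl,
    Module.natCard_eq_pow_finrank (K := ZMod r), Nat.card_zmod]

theorem isSquare_card (i j z : G) (N : Subgroup G) (hc : ∀ a ∈ N, ∀ b ∈ N, a * b = b * a)
    (hi : ∀ a ∈ N, i * a * i⁻¹ ∈ N) (hj : ∀ a ∈ N, j * a * j⁻¹ ∈ N)
    (hz : ∀ a ∈ N, z * a * z⁻¹ = a⁻¹) (hij : i * j = z * (j * i))
    (hodd : Odd (Nat.card N)) : IsSquare (Nat.card N) := by
  suffices h : ∀ (n : ℕ) (M : Subgroup G), Nat.card M = n → M ≤ N →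
      (∀ a ∈ M, i * a * i⁻¹ ∈ M) → (∀ a ∈ M, j * a * j⁻¹ ∈ M) → IsSquare n from
    h _ N rfl le_rfl hi hj
  intro n
  induction n using Nat.strong_induction_on with
  | _ n ih =>
    intro M hM hMN hMi hMj
    rcases eq_or_ne n 1 with rfl | hn1
    · exact ⟨1, rfl⟩
    obtain ⟨r, hr, hrd⟩ := Nat.exists_prime_and_dvd hn1
    have := Fact.mk hr
    let f : M →* G :=
      { toFun := fun a => (a : G) ^ r
        map_one' := one_pow r
        map_mul' := fun a b =>
          (show Commute (a : G) b from hc _ (hMN a.2) _ (hMN b.2)).mul_pow r }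
    have hker : ∀ g : G, (∀ a ∈ M, g * a * g⁻¹ ∈ M) →
        ∀ a ∈ f.ker.map M.subtype, g * a * g⁻¹ ∈ f.ker.map M.subtype := by
      intro g hg a ha
      obtain ⟨w, hw, rfl⟩ := ha
      refine ⟨⟨g * w * g⁻¹, hg w w.2⟩, ?_, rfl⟩
      show (g * (w : G) * g⁻¹) ^ r = 1
      rw [conj_pow, show (w : G) ^ r = 1 from hw, mul_one, mul_inv_cancel]
    have hran : ∀ g : G, (∀ a ∈ M, g * a * g⁻¹ ∈ M) → ∀ a ∈ f.range, g * a * g⁻¹ ∈ f.range := by
      rintro g hg a ⟨w, rfl⟩
      exact ⟨⟨g * w * g⁻¹, hg w w.2⟩, conj_pow⟩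
    have hrange : f.range ≤ M := by
      rintro a ⟨w, rfl⟩
      exact M.pow_mem w.2 r
    have hr2 : r ≠ 2 := by
      rintro rfl
      have h2 := hrd.trans (hM ▸ Subgroup.card_dvd_of_le hMN)
      exact absurd (even_iff_two_dvd.2 h2) (Nat.not_even_iff_odd.2 hodd)
    have hW : IsSquare (Nat.card (f.ker.map M.subtype)) := by
      refine even_log_card (r := r) hr2 _ i j z ?_ ?_ (hker i hMi) (hker j hMj) ?_ hij
      · intro a ha b hb
        exact hc a (hMN (map_subtype_le _ ha)) b (hMN (map_subtype_le _ hb))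
      · rintro a ⟨w, hw, rfl⟩
        exact hw
      · intro a ha
        exact hz a (hMN (map_subtype_le _ ha))
    rw [Subgroup.card_map_of_injective M.subtype_injective] at hW
    have hmul : Nat.card f.ker * Nat.card f.range = n := by
      rw [← hM, ← f.ker.card_mul_index, Subgroup.index_ker]
    have h2 : 2 ≤ Nat.card f.ker := by
      obtain ⟨w, hw⟩ := exists_prime_orderOf_dvd_card' r (G := M) (hM ▸ hrd)
      have hwk : w ∈ f.ker := by
        show (w : G) ^ r = 1
        rw [← SubmonoidClass.coe_pow, ← hw, pow_orderOf_eq_one]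
        rfl
      have h1 : 1 < Nat.card f.ker := by
        rw [Subgroup.one_lt_card_iff_ne_bot]
        intro hb
        rw [hb, Subgroup.mem_bot] at hwk
        rw [hwk, orderOf_one] at hw
        exact hr.one_lt.ne hw
      omega
    have hlt : Nat.card f.range < n := by
      have h1 : 1 ≤ Nat.card f.range := Nat.card_pos
      nlinarith
    rw [← hmul]
    exact hW.mul (ih _ hlt f.range rfl (hrange.trans hMN) (hran i hMi) (hran j hMj))

/-- The main statement. -/
theorem odd_and_square {H : Subgroup G} (hH : Cfsg.IsFrobeniusComplement H) {i j z : G}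
    (hz : z ∈ H) (hz1 : z ≠ 1) (hz2 : z * z = 1) (hij : i * j = z * (j * i)) :
    Odd (Nat.card (Cfsg.frobeniusKernel H)) ∧ IsSquare (Nat.card (Cfsg.frobeniusKernel H)) := by
  set N := Kernel.kernelSubgroup hH hz hz1 hz2 with hN
  have hcard : Nat.card (Cfsg.frobeniusKernel H) = Nat.card N := rfl
  have hodd : Odd (Nat.card N) := by
    rw [← Nat.not_even_iff_odd]
    intro hev
    obtain ⟨x, hx⟩ := exists_prime_orderOf_dvd_card' (G := N) 2 hev.two_dvd
    have hxk : (x : G) ∈ Cfsg.frobeniusKernel H := x.2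
    have hx2 : (x : G) ^ 2 = 1 := by
      rw [← SubmonoidClass.coe_pow, ← hx, pow_orderOf_eq_one]
      rfl
    have hx1 : (x : G) ≠ 1 := fun h => by
      rw [show x = 1 from Subtype.ext h, orderOf_one] at hx
      omega
    have hfix := Kernel.invert hH hz hz1 hz2 hxk
    rw [show (x : G)⁻¹ = x from inv_eq_of_mul_eq_one_right (by rw [← pow_two, hx2])] at hfix
    have hxH : (x : G) ∈ H := by
      refine Kernel.mem_of_mem_conj hH hz hz1 ?_
      have e : (x : G)⁻¹ * z * x = z := by
        rw [mul_inv_eq_iff_eq_mul] at hfix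
        rw [mul_assoc, hfix, inv_mul_cancel_left]
      rw [e]
      exact hz
    rcases Kernel.mem_frobeniusKernel.1 hxk with h | h
    · exact hx1 h
    · exact h 1 (by simpa using hxH)
  rw [hcard]
  refine ⟨hodd, isSquare_card i j z N (fun a ha b hb => Kernel.kernel_comm hH hz hz1 hz2 ha hb)
    (fun a ha => Kernel.conj_mem_frobeniusKernel ha i)
    (fun a ha => Kernel.conj_mem_frobeniusKernel ha j)
    (fun a ha => Kernel.invert hH hz hz1 hz2 ha) hij hodd⟩


/-- A finite `p`-group with at most `p` solutions of `x ^ p = 1`, in which `x ↦ x ^ p` is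
multiplicative modulo class two, is cyclic: here `p` is odd or the group is commutative. -/
theorem isCyclic_of_few_roots {p : ℕ} [Fact p.Prime] :
    ∀ (n : ℕ) (P : Type*) [Group P] [Finite P], Nat.card P = n → IsPGroup p P →
      (Odd p ∨ ∀ a b : P, a * b = b * a) → Nat.card {x : P // x ^ p = 1} ≤ p → IsCyclic P := by
  intro n
  induction n using Nat.strong_induction_on with
  | _ n ih =>
    intro P _ _ hn hP hgood hfew
    by_contra hnc
    have hp := (Fact.out : p.Prime)
    have : Nontrivial P := by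
      by_contra h
      rw [not_nontrivial_iff_subsingleton] at h
      exact hnc inferInstance
    -- maximal subgroups are cyclic
    have hcyc : ∀ M : Subgroup P, IsCoatom M → IsCyclic M := by
      intro M hM
      refine ih (Nat.card M) ?_ M rfl (hP.to_subgroup M) ?_ ?_
      · rw [← hn, ← M.card_mul_index, CfsgLib.PGroup.Frattini.index_of_isCoatom hP hM]
        exact lt_mul_of_one_lt_right Nat.card_pos hp.one_lt
      · exact hgood.imp id fun h a b => Subtype.ext (h a b)
      · refine le_trans (Nat.card_le_card_of_injective (fun x : {x : M // x ^ p = 1} =>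
          (⟨(x.1 : P), by rw [← SubmonoidClass.coe_pow, x.2]; rfl⟩ : {x : P // x ^ p = 1})) ?_) hfew
        intro a b h
        exact Subtype.ext (Subtype.ext (congrArg Subtype.val h :))
    obtain ⟨A, hA, -⟩ := (eq_top_or_exists_le_coatom (⊥ : Subgroup P)).resolve_left bot_ne_top
    obtain ⟨B, hB, hBA⟩ : ∃ B : Subgroup P, IsCoatom B ∧ B ≠ A := by
      by_contra hc
      obtain ⟨x, hx⟩ := SetLike.exists_not_mem_of_ne_top A hA.1
      rcases eq_top_or_exists_le_coatom (zpowers x) with h | ⟨B, hB, hle⟩
      · exact hnc ⟨x, fun y => by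
          have hy : y ∈ zpowers x := h ▸ Subgroup.mem_top y
          exact hy⟩
      · have : B = A := not_not.1 fun h => hc ⟨B, hB, h⟩
        exact hx (this ▸ hle (mem_zpowers x))
    have hAn := CfsgLib.PGroup.Frattini.normal_of_isCoatom hP hA
    have hBn := CfsgLib.PGroup.Frattini.normal_of_isCoatom hP hB
    have hAi := CfsgLib.PGroup.Frattini.index_of_isCoatom hP hA
    have hBi := CfsgLib.PGroup.Frattini.index_of_isCoatom hP hB
    have hAB : A ⊔ B = ⊤ := hA.2 _ (lt_of_le_of_ne le_sup_left fun h => by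
      rcases hB.le_iff.1 (h ▸ le_sup_right : B ≤ A) with h' | h'
      · exact hA.1 h'
      · exact hBA h'.symm)
    have hAc := hcyc A hA
    have hBc := hcyc B hB
    -- `A ⊓ B` is central
    have hcent : A ⊓ B ≤ center P := by
      intro c hc
      rw [mem_center_iff]
      intro g
      have hg : g ∈ A ⊔ B := hAB ▸ Subgroup.mem_top g
      obtain ⟨a, ha, b, hb, rfl⟩ := mem_sup_of_normal_left.1 hg
      obtain ⟨hcA, hcB⟩ := mem_inf.1 hc
      have h1 : a * c = c * a :=
        congrArg Subtype.val ((hAc.isMulCommutative.is_comm.comm) ⟨a, ha⟩ ⟨c, hcA⟩)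
      have h2 : b * c = c * b :=
        congrArg Subtype.val ((hBc.isMulCommutative.is_comm.comm) ⟨b, hb⟩ ⟨c, hcB⟩)
      rw [mul_assoc, h2, ← mul_assoc, h1, mul_assoc]
    have hpow : ∀ x : P, x ^ p ∈ A ⊓ B := fun x =>
      mem_inf.2 ⟨hAi ▸ A.pow_index_mem x, hBi ▸ B.pow_index_mem x⟩
    have hcom : ∀ x y : P, x * y * x⁻¹ * y⁻¹ ∈ A ⊓ B := by
      intro x y
      have key : ∀ M : Subgroup P, M.Normal → M.index = p → x * y * x⁻¹ * y⁻¹ ∈ M := by
        intro M hMn hMi
        have : IsCyclic (P ⧸ M) := isCyclic_of_prime_card (p := p) hMi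
        have hcm := ((this.isMulCommutative).is_comm.comm) (x : P ⧸ M) (y : P ⧸ M)
        rw [← QuotientGroup.eq_one_iff]
        simp only [QuotientGroup.mk_mul, QuotientGroup.mk_inv]
        rw [hcm]
        group
      exact mem_inf.2 ⟨key A hAn hAi, key B hBn hBi⟩
    have hmul : ∀ x y : P, (x * y) ^ p = x ^ p * y ^ p := by
      rcases hgood with hodd | hcomm
      · intro x y
        set c := y * x * y⁻¹ * x⁻¹ with hc
        have hcc : ∀ g, g * c = c * g := fun g => mem_center_iff.1 (hcent (hcom y x)) g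
        have hyx : y * x = c * (x * y) := by rw [hc]; group
        have hyk : ∀ k : ℕ, y ^ k * x = c ^ k * (x * y ^ k) := by
          intro k
          induction k with
          | zero => simp
          | succ k ihk =>
            calc y ^ (k + 1) * x = y ^ k * (y * x) := by rw [pow_succ, mul_assoc]
              _ = y ^ k * (c * (x * y)) := by rw [hyx]
              _ = y ^ k * c * (x * y) := by rw [← mul_assoc]
              _ = c * (y ^ k * x * y) := by rw [hcc (y ^ k)]; group
              _ = _ := by rw [ihk, pow_succ' c, pow_succ y]; group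
        have hxyk : ∀ k : ℕ, (x * y) ^ k = c ^ (k.choose 2) * (x ^ k * y ^ k) := by
          intro k
          induction k with
          | zero => simp
          | succ k ihk =>
            have hcx : ∀ (g : P) (m : ℕ), g * c ^ m = c ^ m * g := fun g m =>
              ((show Commute g c from hcc g).pow_right m).eq
            calc (x * y) ^ (k + 1) = c ^ (k.choose 2) * (x ^ k * (y ^ k * x) * y) := by
                  rw [pow_succ, ihk]; group
              _ = c ^ (k.choose 2) * (c ^ k * (x ^ k * x) * (y ^ k * y)) := by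
                  rw [hyk, ← mul_assoc (x ^ k), hcx (x ^ k) k]; group
              _ = _ := by
                  rw [← pow_succ, ← pow_succ, ← mul_assoc, ← mul_assoc, ← pow_add, mul_assoc,
                    show (k + 1).choose 2 = k.choose 2 + k by
                      rw [Nat.choose_succ_succ, Nat.choose_one_right, add_comm]]
        rw [hxyk p]
        have hcp : c ^ p = 1 := by
          have h1 := hyk p
          have h2 := mem_center_iff.1 (hcent (hpow y)) x
          rw [h2] at h1
          exact mul_eq_right.1 h1.symm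
        obtain ⟨m, hm⟩ : p ∣ p.choose 2 := by
          refine hp.dvd_choose_self two_ne_zero ?_
          have := hp.two_le
          obtain ⟨t, ht⟩ := hodd
          omega
        rw [hm, pow_mul, hcp, one_pow, one_mul]
      · intro x y
        exact (show Commute x y from hcomm x y).mul_pow p
    let f : P →* P := { toFun := fun x => x ^ p, map_one' := one_pow p, map_mul' := hmul }
    have h1 : Nat.card f.range ≤ Nat.card (A ⊓ B : Subgroup P) :=
      Subgroup.card_le_of_le (by rintro _ ⟨x, rfl⟩; exact hpow x)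
    have h2 : Nat.card f.ker ≤ p := hfew
    have h3 : Nat.card f.ker * Nat.card f.range = Nat.card P := by
      rw [← f.ker.card_mul_index, Subgroup.index_ker]
    have h4 : (A ⊓ B : Subgroup P).relIndex A = p := by
      have h5 : B.relIndex A ∣ p := hBi ▸ Subgroup.relIndex_dvd_index_of_normal B A
      rw [Subgroup.inf_relIndex_left]
      refine ((Nat.dvd_prime hp).1 h5).resolve_left fun h => hBA ?_
      rw [Subgroup.relIndex_eq_one] at h
      exact ((hA.le_iff.1 h).resolve_left hB.1)
    have h6 := ((A ⊓ B).subgroupOf A).card_mul_index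
    rw [Nat.card_congr (Subgroup.subgroupOfEquivOfLe (inf_le_left : A ⊓ B ≤ A)).toEquiv] at h6
    change Nat.card (A ⊓ B : Subgroup P) * (A ⊓ B).relIndex A = Nat.card A at h6
    rw [h4] at h6
    have h7 := A.card_mul_index
    rw [hAi, ← h6] at h7
    have h8 : 0 < Nat.card (A ⊓ B : Subgroup P) := Nat.card_pos
    have h9 := Nat.mul_le_mul h2 h1
    rw [h3, ← h7] at h9
    have := hp.two_le
    nlinarith [Nat.mul_le_mul_left p (Nat.mul_le_mul_left (Nat.card (A ⊓ B : Subgroup P)) this)]

/-- In a nonabelian `p`-group some commutator has order exactly `p`, and is central. -/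
theorem exists_commutator_order_p {p : ℕ} [Fact p.Prime] {P : Type*} [Group P] [Finite P]
    (hP : IsPGroup p P) (hnc : ¬ ∀ a b : P, a * b = b * a) :
    ∃ a b : P, orderOf (a * b * a⁻¹ * b⁻¹) = p := by
  have hp := (Fact.out : p.Prime)
  have : Nontrivial (P ⧸ center P) := by
    rw [QuotientGroup.nontrivial_iff, Ne, Subgroup.eq_top_iff']
    exact fun h => hnc fun a b => (mem_center_iff.1 (h b) a)
  obtain ⟨q, hq, hq1⟩ : ∃ q ∈ center (P ⧸ center P), q ≠ 1 := by
    have := (hP.to_quotient (center P)).center_nontrivial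
    obtain ⟨q, hq⟩ := exists_ne (1 : center (P ⧸ center P))
    exact ⟨q, q.2, fun h => hq (Subtype.ext h)⟩
  obtain ⟨a, rfl⟩ := QuotientGroup.mk_surjective q
  have hac : ∀ b : P, a * b * a⁻¹ * b⁻¹ ∈ center P := fun b => by
    rw [← QuotientGroup.eq_one_iff]
    simp only [QuotientGroup.mk_mul, QuotientGroup.mk_inv]
    rw [← mem_center_iff.1 hq (b : P ⧸ center P)]
    group
  obtain ⟨b, hb⟩ : ∃ b, a * b * a⁻¹ * b⁻¹ ≠ 1 := by
    by_contra hc
    simp only [not_exists, not_not] at hc
    refine hq1 ((QuotientGroup.eq_one_iff a).2 (mem_center_iff.2 fun b => ?_))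
    have := hc b
    rw [mul_inv_eq_one, mul_inv_eq_iff_eq_mul] at this
    exact this.symm
  set c := a * b * a⁻¹ * b⁻¹ with hc
  have hbk : ∀ k : ℕ, a * b ^ k * a⁻¹ * (b ^ k)⁻¹ = c ^ k := by
    intro k
    induction k with
    | zero => simp
    | succ k ihk =>
      have hcc : c * b ^ k = b ^ k * c := (mem_center_iff.1 (hac b) (b ^ k)).symm
      calc a * b ^ (k + 1) * a⁻¹ * (b ^ (k + 1))⁻¹
          = (a * b ^ k * a⁻¹ * (b ^ k)⁻¹) * (b ^ k * c * (b ^ k)⁻¹) := by
            rw [hc, pow_succ]; group
        _ = _ := by rw [ihk, ← hcc, mul_inv_cancel_right, pow_succ]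
  obtain ⟨k, hk⟩ := IsPGroup.iff_orderOf.1 hP c
  have hk0 : k ≠ 0 := fun h => hb (by rw [h, pow_zero, orderOf_eq_one_iff] at hk; exact hk)
  refine ⟨a, b ^ (p ^ (k - 1)), ?_⟩
  rw [hbk, orderOf_pow' c (pow_ne_zero _ hp.ne_zero), hk,
    Nat.gcd_eq_right (pow_dvd_pow p (Nat.sub_le k 1)), Nat.pow_div (Nat.sub_le k 1) hp.pos,
    show k - (k - 1) = 1 by omega, pow_one]

end CfsgLib.FrobRealize.EvenSquare
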