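import Cfsg.Agent.Lib.FrobRealize.Basic
import Cfsg.Agent.Lib.FrobRealize.Conjugate
import Mathlib

/-!
# Fixed-point-free modules in every coprime characteristic

`A` is *free over* `R` when some nonzero function `A → R` sums to zero on every coset `⟨g⟩ x`,
`g ≠ 1`.  For a field this says that `A` has a fixed-point-free module; the property does not
depend on the characteristic as long as it does not divide `|A|`.
-/

set_option autoImplicit false

namespace CfsgLib.FrobRealize.Transfer

open Subgroup

variable {A : Type*} [Group A] [Fintype A] [DecidableEq A]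

/-- Left translation of functions. -/
def tau {R : Type*} [CommRing R] (a : A) : (A → R) →ₗ[R] (A → R) :=
  LinearMap.funLeft R R fun x => a⁻¹ * x

@[simp] theorem tau_apply {R : Type*} [CommRing R] (a : A) (f : A → R) (x : A) :
    tau a f x = f (a⁻¹ * x) := rfl

theorem tau_mul {R : Type*} [CommRing R] (a b : A) (f : A → R) :
    tau a (tau b f) = tau (a * b) f := by
  funext x
  simp [mul_assoc]

/-- The sum over a cyclic subgroup. -/
noncomputable def E {R : Type*} [CommRing R] (g : A) (f : A → R) : A → R :=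
  fun x => ∑ d : zpowers g, f ((d : A) * x)

/-- The property. -/
def Free (A : Type*) [Group A] [Fintype A] [DecidableEq A] (R : Type*) [CommRing R] : Prop :=
  ∃ f : A → R, f ≠ 0 ∧ ∀ g : A, g ≠ 1 → E g f = 0

theorem E_add {R : Type*} [CommRing R] (g : A) (f h : A → R) : E g (f + h) = E g f + E g h := by
  funext x
  simp [E, Finset.sum_add_distrib]

theorem E_smul {R : Type*} [CommRing R] (g : A) (c : R) (f : A → R) :
    E g (c • f) = c • E g f := by
  funext x
  simp [E, Finset.mul_sum]

theorem E_eq_sum_tau {R : Type*} [CommRing R] (g : A) (f : A → R) :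
    E g f = ∑ d : zpowers g, tau ((d : A)⁻¹) f := by
  funext x
  simp [E, Finset.sum_apply]

theorem E_E {R : Type*} [CommRing R] (g : A) (f : A → R) :
    E g (E g f) = (Nat.card (zpowers g) : R) • E g f := by
  funext x
  have h : ∀ d : zpowers g, E g f ((d : A) * x) = E g f x := fun d => by
    simp only [E, ← mul_assoc]
    exact Fintype.sum_equiv (Equiv.mulRight d) _ _ fun e => rfl
  show ∑ d : zpowers g, E g f ((d : A) * x) = _
  rw [Finset.sum_congr rfl fun d _ => h d, Finset.sum_const, Finset.card_univ,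
    ← Nat.card_eq_fintype_card, nsmul_eq_mul, Pi.smul_apply, smul_eq_mul]

theorem E_map {R S : Type*} [CommRing R] [CommRing S] (φ : R →+* S) (g : A) (f : A → R) :
    E g (φ ∘ f) = φ ∘ E g f := by
  funext x
  simp [E, map_sum]

/-- A power of an element of a finite monoid is idempotent. -/
theorem exists_idempotent_pow {M : Type*} [Monoid M] [Finite M] (x : M) :
    ∃ n : ℕ, 0 < n ∧ x ^ n * x ^ n = x ^ n := by
  obtain ⟨i, j, hne, h⟩ := Finite.exists_ne_map_eq_of_infinite fun n : ℕ => x ^ (n + 1)
  wlog hlt : i < j generalizing i j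
  · exact this j i hne.symm h.symm (by omega)
  have hper : ∀ m, i + 1 ≤ m → x ^ (m + (j - i)) = x ^ m := by
    intro m hm
    obtain ⟨t, rfl⟩ := Nat.exists_eq_add_of_le hm
    calc x ^ (i + 1 + t + (j - i)) = x ^ (j + 1) * x ^ t := by
          rw [← pow_add]; congr 1; omega
      _ = x ^ (i + 1) * x ^ t := by rw [← h]
      _ = _ := (pow_add _ _ _).symm
  have hper' : ∀ t m, i + 1 ≤ m → x ^ (m + t * (j - i)) = x ^ m := by
    intro t
    induction t with
    | zero => simp
    | succ t ih => intro m hm; rw [add_mul, one_mul, ← add_assoc, hper _ (by omega), ih m hm]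
  have h1 : 0 < j - i := by omega
  refine ⟨(i + 1) * (j - i), Nat.mul_pos (by omega) h1, ?_⟩
  rw [← pow_add, hper' (i + 1) _ (Nat.le_mul_of_pos_right _ h1)]

theorem cast_ne_zero_of_card {s : ℕ} [Fact s.Prime] (hs : ¬ s ∣ Nat.card A) (g : A) :
    (Nat.card (zpowers g) : ZMod s) ≠ 0 := fun h =>
  hs (((ZMod.natCast_eq_zero_iff _ _).1 h).trans (card_subgroup_dvd_card _))

/-- Lifting modulo powers of the prime. -/
theorem lift_pow {r : ℕ} [hr : Fact r.Prime] (hrA : ¬ r ∣ Nat.card A) (h : Free A (ZMod r)) (k : ℕ) :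
    ∃ y : A → ZMod (r ^ (k + 1)), (∀ g : A, g ≠ 1 → E g y = 0) ∧
      ∃ x, ZMod.castHom (dvd_pow_self r k.succ_ne_zero) (ZMod r) (y x) ≠ 0 := by
  classical
  set K := r ^ (k + 1) with hK
  have : NeZero K := ⟨pow_ne_zero _ hr.out.ne_zero⟩
  set ρ : ZMod K →+* ZMod r := ZMod.castHom (dvd_pow_self r k.succ_ne_zero) (ZMod r) with hρ
  have hρs : Function.Surjective ρ := ZMod.castHom_surjective _
  obtain ⟨f, hf, hfE⟩ := h
  -- the free functions mod `r`
  let L : Submodule (ZMod r) (A → ZMod r) :=
    { carrier := {u | ∀ g : A, g ≠ 1 → E g u = 0}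
      add_mem' := fun hu hv g hg => by rw [E_add, hu g hg, hv g hg, add_zero]
      zero_mem' := fun g _ => by funext x; simp [E]
      smul_mem' := fun c u hu g hg => by rw [E_smul, hu g hg, smul_zero] }
  have hLtau : ∀ a u, u ∈ L → tau a u ∈ L := fun a u hu g hg => by
    have hg' : a⁻¹ * g * a ≠ 1 := fun e => hg (by
      calc g = a * (a⁻¹ * g * a) * a⁻¹ := by group
        _ = 1 := by rw [e]; group)
    funext x
    have h1 := congrFun (hu _ hg') (a⁻¹ * x)
    rw [Pi.zero_apply] at h1 ⊢
    rw [← h1]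
    let e : zpowers g ≃ zpowers (a⁻¹ * g * a) :=
      { toFun := fun d => ⟨a⁻¹ * d * a, by
          obtain ⟨m, hm⟩ := mem_zpowers_iff.1 d.2
          refine mem_zpowers_iff.2 ⟨m, ?_⟩
          rw [show a⁻¹ * g * a = a⁻¹ * g * a⁻¹⁻¹ by rw [inv_inv], conj_zpow, hm, inv_inv]⟩
        invFun := fun d => ⟨a * d * a⁻¹, by
          obtain ⟨m, hm⟩ := mem_zpowers_iff.1 d.2
          refine mem_zpowers_iff.2 ⟨m, ?_⟩
          rw [← hm, ← conj_zpow]
          congr 1
          group⟩
        left_inv := fun d => Subtype.ext (by simp [mul_assoc])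
        right_inv := fun d => Subtype.ext (by simp [mul_assoc]) }
    refine Fintype.sum_equiv e _ _ fun d => ?_
    show u (a⁻¹ * ((d : A) * x)) = u (a⁻¹ * (d : A) * a * (a⁻¹ * x))
    congr 1
    group
  obtain ⟨L', hL'⟩ := Submodule.exists_isCompl L
  let q : (A → ZMod r) →ₗ[ZMod r] (A → ZMod r) :=
    L.subtype.comp (L.projectionOnto L' hL')
  have hq : ∀ u ∈ L, q u = u := fun u hu =>
    congrArg Subtype.val (Submodule.projectionOnto_apply_left hL' ⟨u, hu⟩)
  have hqmem : ∀ u, q u ∈ L := fun u => (L.projectionOnto L' hL' u).2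
  -- lift the projection
  choose c hc using fun (a x : A) => hρs (q (Pi.single a 1) x)
  let Q : (A → ZMod K) →ₗ[ZMod K] (A → ZMod K) := ∑ a, (LinearMap.proj a).smulRight (c a)
  have hQ : ∀ u, ρ ∘ Q u = q (ρ ∘ u) := by
    intro u
    have hdec : (ρ ∘ u) = ∑ a, (ρ (u a)) • (Pi.single a (1 : ZMod r) : A → ZMod r) := by
      funext x
      simp [Finset.sum_apply, Pi.single_apply]
    rw [hdec, map_sum]
    funext x
    simp only [Q, Function.comp_apply, LinearMap.sum_apply, LinearMap.smulRight_apply,
      LinearMap.proj_apply, Finset.sum_apply, Pi.smul_apply, smul_eq_mul, map_sum, map_mul, hc,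
      LinearMap.map_smul]
  have hNu : IsUnit ((Nat.card A : ℕ) : ZMod K) :=
    (ZMod.isUnit_iff_coprime _ _).2 (Nat.Coprime.pow_right _
      ((hr.out.coprime_iff_not_dvd).2 hrA).symm)
  obtain ⟨iN, hiN⟩ := hNu.exists_left_inv
  let P : (A → ZMod K) →ₗ[ZMod K] (A → ZMod K) :=
    iN • ∑ a : A, (tau a).comp (Q.comp (tau a⁻¹))
  have hPtau : ∀ b u, P (tau b u) = tau b (P u) := by
    intro b u
    simp only [P, LinearMap.smul_apply, LinearMap.sum_apply, LinearMap.comp_apply, map_smul,
      map_sum, tau_mul]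
    congr 1
    refine (Fintype.sum_equiv (Equiv.mulLeft b) _ _ fun a => ?_).symm
    simp [mul_assoc]
  have hρtau : ∀ (a : A) (u : A → ZMod K), ρ ∘ tau a u = tau a (ρ ∘ u) := fun a u => rfl
  have hρP : ∀ u, ρ ∘ P u = ρ iN • ∑ a : A, tau a (q (tau a⁻¹ (ρ ∘ u))) := by
    intro u
    funext x
    simp only [P, Function.comp_apply, LinearMap.smul_apply, LinearMap.sum_apply,
      LinearMap.comp_apply, Pi.smul_apply, Finset.sum_apply, smul_eq_mul, map_mul, map_sum]
    congr 1
    refine Finset.sum_congr rfl fun a _ => ?_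
    have h1 := congrFun (hQ (tau a⁻¹ u)) (a⁻¹ * x)
    rw [Function.comp_apply, hρtau] at h1
    exact h1
  have hPL : ∀ u, ρ ∘ P u ∈ L := fun u => by
    rw [hρP]
    exact L.smul_mem _ (L.sum_mem fun a _ => hLtau a _ (hqmem _))
  have hPfix : ∀ u, ρ ∘ u ∈ L → ρ ∘ P u = ρ ∘ u := fun u hu => by
    rw [hρP]
    have : ∀ a : A, tau a (q (tau a⁻¹ (ρ ∘ u))) = ρ ∘ u := fun a => by
      rw [hq _ (hLtau _ _ hu), tau_mul, mul_inv_cancel]
      funext x
      simp
    rw [Finset.sum_congr rfl fun a _ => this a, Finset.sum_const, Finset.card_univ,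
      ← Nat.card_eq_fintype_card, ← Nat.cast_smul_eq_nsmul (ZMod r), smul_smul,
      ← map_natCast ρ, ← map_mul, hiN, map_one, one_smul]
  have : Finite ((A → ZMod K) →ₗ[ZMod K] (A → ZMod K)) :=
    Finite.of_injective _ DFunLike.coe_injective
  obtain ⟨N, hN0, hN⟩ := exists_idempotent_pow (M := Module.End (ZMod K) (A → ZMod K)) P
  set e : Module.End (ZMod K) (A → ZMod K) :=
    (HPow.hPow (α := Module.End (ZMod K) (A → ZMod K)) P N) with he
  have hee : ∀ u, e (e u) = e u := fun u => LinearMap.congr_fun hN u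
  have hetau : ∀ b u, e (tau b u) = tau b (e u) := by
    intro b
    have : ∀ n (u : A → ZMod K), (HPow.hPow (α := Module.End (ZMod K) (A → ZMod K)) P n) (tau b u) =
        tau b ((HPow.hPow (α := Module.End (ZMod K) (A → ZMod K)) P n) u) := by
      intro n
      induction n with
      | zero => intro u; rfl
      | succ n ih =>
        intro u
        rw [pow_succ, Module.End.mul_apply, Module.End.mul_apply, hPtau, ih]
    exact this N
  have heL : ∀ u, ρ ∘ e u ∈ L := by
    intro u
    obtain ⟨n, hn⟩ := Nat.exists_eq_succ_of_ne_zero hN0.ne'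
    rw [he, hn, pow_succ', Module.End.mul_apply]
    exact hPL _
  have hefix : ∀ u, ρ ∘ u ∈ L → ρ ∘ e u = ρ ∘ u := by
    intro u hu
    have : ∀ n, ρ ∘ (HPow.hPow (α := Module.End (ZMod K) (A → ZMod K)) P n) u = ρ ∘ u := by
      intro n
      induction n with
      | zero => rfl
      | succ n ih => rw [pow_succ', Module.End.mul_apply, hPfix _ (by rw [ih]; exact hu), ih]
    exact this N
  choose u hu using fun x => hρs (f x)
  have hu' : ρ ∘ u = f := funext hu
  refine ⟨e u, fun g hg => ?_, ?_⟩
  · have heE : ∀ v, e (E g v) = E g (e v) := fun v => by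
      rw [E_eq_sum_tau, E_eq_sum_tau, map_sum]
      exact Finset.sum_congr rfl fun d _ => hetau _ _
    have hq' : IsUnit ((Nat.card (zpowers g) : ℕ) : ZMod K) :=
      (ZMod.isUnit_iff_coprime _ _).2 (Nat.Coprime.pow_right _
        ((hr.out.coprime_iff_not_dvd).2 fun hd => hrA (hd.trans (card_subgroup_dvd_card _))).symm)
    have hdiv : ∀ v, e v = v → ∃ w, E g v = (r : ZMod K) • w := by
      intro v hv
      have h0 : ρ ∘ E g v = 0 := by
        rw [← E_map, ← hv]
        exact heL v g hg
      have : ∀ x, ∃ w : ZMod K, E g v x = (r : ZMod K) * w := fun x => by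
        have h1 : ρ ((ZMod.val (E g v x) : ℕ) : ZMod K) = 0 := by
          rw [ZMod.natCast_zmod_val]
          exact congrFun h0 x
        rw [map_natCast, ZMod.natCast_eq_zero_iff] at h1
        obtain ⟨t, ht⟩ := h1
        exact ⟨(t : ZMod K), by rw [← Nat.cast_mul, ← ht, ZMod.natCast_zmod_val]⟩
      choose w hw using this
      exact ⟨w, funext hw⟩
    have hall : ∀ j : ℕ, ∀ v, e v = v → ∃ w, E g v = (r : ZMod K) ^ j • w := by
      intro j
      induction j with
      | zero => intro v _; exact ⟨_, by rw [pow_zero, one_smul]⟩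
      | succ j ih =>
        intro v hv
        obtain ⟨w, hw⟩ := ih v hv
        have h2 : e (E g v) = E g v := by rw [heE, hv]
        obtain ⟨w', hw'⟩ := hdiv (e w) (hee w)
        obtain ⟨iq, hiq⟩ := hq'.exists_left_inv
        refine ⟨iq • w', ?_⟩
        calc E g v = iq • (((Nat.card (zpowers g) : ℕ) : ZMod K) • E g v) := by
              rw [smul_smul, hiq, one_smul]
          _ = iq • E g (E g v) := by rw [E_E]
          _ = iq • E g ((r : ZMod K) ^ j • e w) := by
              rw [← map_smul, ← hw, h2]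
          _ = _ := by rw [E_smul, hw', smul_smul, smul_smul, smul_smul]; ring_nf
    obtain ⟨w, hw⟩ := hall (k + 1) (e u) (hee u)
    have h0 : (r : ZMod K) ^ (k + 1) = 0 := by
      rw [← Nat.cast_pow]
      exact ZMod.natCast_self K
    rw [hw, h0, zero_smul]
  · have : ρ ∘ e u = f := (hefix u (hu'.symm ▸ hfE)).trans hu'
    by_contra hc
    push Not at hc
    exact hf (this ▸ funext hc)

theorem free_int_of_zmod {r : ℕ} [hr : Fact r.Prime] (hrA : ¬ r ∣ Nat.card A)
    (h : Free A (ZMod r)) : Free A ℤ := by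
  classical
  let T : (A → ℤ) →ₗ[ℤ] (A → ℤ) :=
    { toFun := fun f => ∑ g ∈ Finset.univ.filter (fun g : A => g ≠ 1), E g f
      map_add' := fun f f' => by simp [E_add, Finset.sum_add_distrib]
      map_smul' := fun c f => by
        rw [RingHom.id_apply, Finset.smul_sum]
        exact Finset.sum_congr rfl fun g _ => E_smul g c f }
  set M := LinearMap.toMatrix' T with hM
  suffices hdet : M.det = 0 by
    obtain ⟨f, hf, hTf⟩ := Matrix.exists_mulVec_eq_zero_iff.2 hdet
    rw [hM, LinearMap.toMatrix'_mulVec] at hTf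
    refine ⟨f, hf, fun g hg => ?_⟩
    have hsq : ∀ g : A, (Nat.card (zpowers g) : ℤ) * (∑ x, f x * E g f x) =
        ∑ x, E g f x * E g f x := by
      intro g
      have hinv : ∀ (d : zpowers g) (x : A), E g f ((d : A)⁻¹ * x) = E g f x := fun d x => by
        simp only [E, ← mul_assoc]
        exact Fintype.sum_equiv (Equiv.mulRight d⁻¹) _ _ fun e => rfl
      calc (Nat.card (zpowers g) : ℤ) * (∑ x, f x * E g f x)
          = ∑ d : zpowers g, ∑ x, f x * E g f x := by
            rw [Finset.sum_const, Finset.card_univ, ← Nat.card_eq_fintype_card, nsmul_eq_mul]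
        _ = ∑ d : zpowers g, ∑ x, f ((d : A) * x) * E g f x := by
            refine Finset.sum_congr rfl fun d _ => ?_
            refine Fintype.sum_equiv (Equiv.mulLeft (d : A)⁻¹) _ _ fun x => ?_
            simp only [Equiv.coe_mulLeft, mul_inv_cancel_left, hinv]
        _ = _ := by
            rw [Finset.sum_comm]
            refine Finset.sum_congr rfl fun x _ => ?_
            rw [← Finset.sum_mul]
            rfl
    have hnn : ∀ g : A, 0 ≤ ∑ x, f x * E g f x := fun g => by
      have h1 : 0 ≤ ∑ x, E g f x * E g f x := Finset.sum_nonneg fun x _ => mul_self_nonneg _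
      rw [← hsq g] at h1
      exact nonneg_of_mul_nonneg_right h1 (by exact_mod_cast Nat.card_pos)
    have htot : ∑ g ∈ Finset.univ.filter (fun g : A => g ≠ 1), ∑ x, f x * E g f x = 0 := by
      rw [Finset.sum_comm]
      refine Finset.sum_eq_zero fun x _ => ?_
      rw [← Finset.mul_sum]
      have := congrFun hTf x
      simp only [T, LinearMap.coe_mk, AddHom.coe_mk, Finset.sum_apply, Pi.zero_apply] at this
      rw [this, mul_zero]
    have h1 := (Finset.sum_eq_zero_iff_of_nonneg fun g _ => hnn g).1 htot g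
      (Finset.mem_filter.2 ⟨Finset.mem_univ g, hg⟩)
    have h2 := hsq g
    rw [h1, mul_zero] at h2
    funext x
    exact mul_self_eq_zero.1 ((Finset.sum_eq_zero_iff_of_nonneg
      fun x _ => mul_self_nonneg _).1 h2.symm x (Finset.mem_univ x))
  by_contra hdet
  set k := M.det.natAbs with hk
  set K := r ^ (k + 1) with hK
  obtain ⟨y, hy, x, hx⟩ : ∃ y : A → ZMod K, (∀ g : A, g ≠ 1 → E g y = 0) ∧
      ∃ x, ZMod.castHom (dvd_pow_self r k.succ_ne_zero) (ZMod r) (y x) ≠ 0 := lift_pow hrA h k
  let ι : ℤ →+* ZMod K := Int.castRingHom _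
  have hMy : (M.map ι).mulVec y = 0 := by
    have : NeZero K := ⟨pow_ne_zero _ hr.out.ne_zero⟩
    let Y : A → ℤ := fun a => (ZMod.val (y a) : ℤ)
    have hY : ι ∘ Y = y := funext fun a => by simp [ι, Y]
    rw [← hY]
    funext a
    rw [← RingHom.map_mulVec, hM, LinearMap.toMatrix'_mulVec]
    show ι ((∑ g ∈ Finset.univ.filter (fun g : A => g ≠ 1), E g Y) a) = 0
    rw [Finset.sum_apply, map_sum]
    refine Finset.sum_eq_zero fun g hg => ?_
    have h1 := congrFun (hy g (Finset.mem_filter.1 hg).2) a
    rw [← hY, E_map] at h1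
    exact h1
  have h1 : (ι M.det) • y = 0 := by
    have := congrArg ((M.map ι).adjugate.mulVec) hMy
    rw [Matrix.mulVec_mulVec, Matrix.adjugate_mul, Matrix.smul_mulVec, Matrix.one_mulVec,
      Matrix.mulVec_zero] at this
    rwa [RingHom.map_det, RingHom.mapMatrix_apply]
  have hu : IsUnit (y x) := by
    have : NeZero K := ⟨pow_ne_zero _ hr.out.ne_zero⟩
    rw [← ZMod.natCast_zmod_val (y x)]
    refine (ZMod.isUnit_iff_coprime _ _).2 (Nat.Coprime.pow_right _ ?_)
    refine ((hr.out.coprime_iff_not_dvd).2 fun hd => hx ?_).symm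
    rw [← ZMod.natCast_zmod_val (y x), map_natCast, ZMod.natCast_eq_zero_iff]
    exact hd
  have h2 : ι M.det = 0 := hu.mul_left_eq_zero.1 (congrFun h1 x)
  have h3 : (K : ℤ) ∣ M.det := (ZMod.intCast_zmod_eq_zero_iff_dvd _ _).1 h2
  have h4 := Nat.le_of_dvd (Int.natAbs_pos.2 hdet) (Int.natCast_dvd.1 h3)
  have h5 : k + 1 < K := Nat.lt_pow_self hr.out.one_lt
  omega

theorem free_zmod_of_int (h : Free A ℤ) (s : ℕ) [hs : Fact s.Prime] : Free A (ZMod s) := by
  classical
  obtain ⟨f, hf, hfE⟩ := h
  suffices hmain : ∀ (n : ℕ) (f : A → ℤ), ∑ x, (f x).natAbs = n → f ≠ 0 →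
      (∀ g : A, g ≠ 1 → E g f = 0) → Free A (ZMod s) from hmain _ f rfl hf hfE
  intro n
  induction n using Nat.strong_induction_on with
  | _ n ih =>
    intro f hn hf hfE
    by_cases hc : ∀ x, (s : ℤ) ∣ f x
    · choose f' hf' using hc
      have hfeq : f = (s : ℤ) • f' := funext fun x => by simp [hf']
      have hf'0 : f' ≠ 0 := fun e => hf (by rw [hfeq, e, smul_zero])
      refine ih _ ?_ f' rfl hf'0 fun g hg => ?_
      · obtain ⟨x, hx⟩ := Function.ne_iff.1 hf'0
        rw [← hn]
        refine Finset.sum_lt_sum (fun y _ => ?_) ⟨x, Finset.mem_univ x, ?_⟩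
        · rw [hf' y, Int.natAbs_mul, Int.natAbs_natCast]
          exact Nat.le_mul_of_pos_left _ hs.out.pos
        · rw [hf' x, Int.natAbs_mul, Int.natAbs_natCast]
          exact lt_mul_of_one_lt_left (Int.natAbs_pos.2 hx) hs.out.one_lt
      · have h1 := hfE g hg
        rw [hfeq, E_smul] at h1
        exact (smul_eq_zero.1 h1).resolve_left (by exact_mod_cast hs.out.ne_zero)
    · refine ⟨(Int.castRingHom (ZMod s)) ∘ f, fun e => hc fun x =>
        (ZMod.intCast_zmod_eq_zero_iff_dvd _ _).1 (congrFun e x), fun g hg => ?_⟩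
      rw [E_map, hfE g hg]
      funext x
      simp

theorem free_int_of_rat (h : Free A ℚ) : Free A ℤ := by
  classical
  obtain ⟨f, hf, hfE⟩ := h
  obtain ⟨b, hb⟩ := IsLocalization.exist_integer_multiples_of_finite (nonZeroDivisors ℤ) f
  choose F hF using hb
  have hb0 : ((b : ℤ) : ℚ) ≠ 0 := Int.cast_ne_zero.2 (nonZeroDivisors.coe_ne_zero b)
  have hFf : (Int.castRingHom ℚ) ∘ F = ((b : ℤ) : ℚ) • f := funext fun x => by
    have := hF x
    simpa [Algebra.smul_def] using this
  refine ⟨F, fun e => hf ?_, fun g hg => ?_⟩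
  · have h1 : ((b : ℤ) : ℚ) • f = 0 := by
      rw [← hFf, e]
      funext x
      simp
    exact (smul_eq_zero.1 h1).resolve_left hb0
  · have h1 := E_map (Int.castRingHom ℚ) g F
    rw [hFf, E_smul, hfE g hg, smul_zero] at h1
    funext x
    exact Int.cast_injective (α := ℚ) ((congrFun h1 x).symm.trans (Int.cast_zero).symm)

/-- A fixed-point-free module gives the property. -/
theorem free_of_module {k M : Type*} [Field k] [AddCommGroup M] [Module k M]
    (ρ : A →* Module.End k M) (h : ∀ g : A, g ≠ 1 → ∀ v, ∑ d : zpowers g, ρ (d : A) v = 0)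
    {v : M} (hv : v ≠ 0) : Free A k := by
  obtain ⟨lam, hlam⟩ := LinearMap.exists_leftInverse_of_injective (LinearMap.toSpanSingleton k M v)
    (LinearMap.ker_eq_bot.2 fun a b hab => by
      simp only [LinearMap.toSpanSingleton_apply] at hab
      exact smul_left_injective k hv hab)
  have h1 : lam v = 1 := by
    have := LinearMap.congr_fun hlam 1
    simpa using this
  refine ⟨fun x => lam (ρ x⁻¹ v), fun e => ?_, fun g hg => ?_⟩
  · have := congrFun e 1
    simp [h1] at this
  · funext x
    show ∑ d : zpowers g, lam (ρ ((d : A) * x)⁻¹ v) = 0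
    have h2 : ∀ d : zpowers g, lam (ρ ((d : A) * x)⁻¹ v) = lam (ρ x⁻¹ (ρ ((d⁻¹ : zpowers g) : A) v)) :=
      fun d => by rw [mul_inv_rev, map_mul, Module.End.mul_apply]; rfl
    have h3 : ∑ d : zpowers g, ρ ((d⁻¹ : zpowers g) : A) v = ∑ d : zpowers g, ρ (d : A) v :=
      Fintype.sum_equiv (Equiv.inv (zpowers g)) _ _ fun d => rfl
    rw [Finset.sum_congr rfl fun d _ => h2 d, ← map_sum, ← map_sum, h3, h g hg, map_zero, map_zero]

theorem free_prod {B : Type*} [Group B] [Fintype B] [DecidableEq B] {R : Type*} [CommRing R]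
    [IsDomain R] (hcop : (Nat.card A).Coprime (Nat.card B)) (hA : Free A R) (hB : Free B R) :
    Free (A × B) R := by
  classical
  obtain ⟨f, hf, hfE⟩ := hA
  obtain ⟨f', hf', hfE'⟩ := hB
  refine ⟨fun x => f x.1 * f' x.2, ?_, fun g hg => ?_⟩
  · obtain ⟨a, ha⟩ := Function.ne_iff.1 hf
    obtain ⟨b, hb⟩ := Function.ne_iff.1 hf'
    exact fun e => mul_ne_zero ha hb (congrFun e (a, b))
  · funext x
    obtain ⟨a, b⟩ := g
    let e : zpowers (a, b) → zpowers a × zpowers b := fun d =>
      (⟨d.1.1, by
        obtain ⟨m, hm⟩ := mem_zpowers_iff.1 d.2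
        exact mem_zpowers_iff.2 ⟨m, by rw [← hm]; rfl⟩⟩,
      ⟨d.1.2, by
        obtain ⟨m, hm⟩ := mem_zpowers_iff.1 d.2
        exact mem_zpowers_iff.2 ⟨m, by rw [← hm]; rfl⟩⟩)
    have he : Function.Bijective e := by
      refine (Nat.bijective_iff_injective_and_card e).2 ⟨fun d d' h => ?_, ?_⟩
      · exact Subtype.ext (Prod.ext (congrArg (fun t => (t.1 : A)) h) (congrArg (fun t => (t.2 : B)) h))
      · rw [Nat.card_prod, Nat.card_zpowers, Nat.card_zpowers, Nat.card_zpowers, Prod.orderOf]
        exact Nat.Coprime.lcm_eq_mul ((hcop.coprime_dvd_left (orderOf_dvd_natCard a)).coprime_dvd_right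
          (orderOf_dvd_natCard b))
    show ∑ d : zpowers (a, b), f ((d : A × B) * x).1 * f' ((d : A × B) * x).2 = 0
    refine (he.sum_comp
      (fun t : zpowers a × zpowers b => f ((t.1 : A) * x.1) * f' ((t.2 : B) * x.2))).trans ?_
    rw [Fintype.sum_prod_type]
    dsimp only
    rw [← Finset.sum_mul_sum]
    rcases not_and_or.1 (fun h : a = 1 ∧ b = 1 => hg (Prod.ext h.1 h.2)) with h | h
    · rw [show ∑ d : zpowers a, f ((d : A) * x.1) = 0 from congrFun (hfE a h) x.1, zero_mul]
    · rw [show ∑ d : zpowers b, f' ((d : B) * x.2) = 0 from congrFun (hfE' b h) x.2, mul_zero]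

/-- Realisation as a Frobenius complement. -/
theorem exists_frobenius {A : Type} [Group A] [Fintype A] [DecidableEq A] [Nontrivial A] (s : ℕ)
    [hs : Fact s.Prime] (hsA : ¬ s ∣ Nat.card A) (h : Free A (ZMod s)) :
    ∃ (L : Type) (_ : Group L) (_ : Finite L) (H : Subgroup L),
      Cfsg.IsFrobeniusComplement H ∧ Nonempty (A ≃* H) := by
  classical
  obtain ⟨f, hf, hfE⟩ := h
  let V : AddSubgroup (A → ZMod s) :=
    { carrier := {u | ∀ g : A, g ≠ 1 → E g u = 0}
      add_mem' := fun hu hv g hg => by rw [E_add, hu g hg, hv g hg, add_zero]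
      zero_mem' := fun g _ => by funext x; simp [E]
      neg_mem' := fun {u} hu g hg => by
        rw [← neg_one_smul (ZMod s) u, E_smul, hu g hg, smul_zero] }
  have hVtau : ∀ a u, u ∈ V → tau a u ∈ V := fun a u hu g hg => by
    have hg' : a⁻¹ * g * a ≠ 1 := fun e => hg (by
      calc g = a * (a⁻¹ * g * a) * a⁻¹ := by group
        _ = 1 := by rw [e]; group)
    funext x
    have h1 := congrFun (hu _ hg') (a⁻¹ * x)
    rw [Pi.zero_apply] at h1 ⊢
    rw [← h1]
    let e : zpowers g ≃ zpowers (a⁻¹ * g * a) :=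
      { toFun := fun d => ⟨a⁻¹ * d * a, by
          obtain ⟨m, hm⟩ := mem_zpowers_iff.1 d.2
          refine mem_zpowers_iff.2 ⟨m, ?_⟩
          rw [show a⁻¹ * g * a = a⁻¹ * g * a⁻¹⁻¹ by rw [inv_inv], conj_zpow, hm, inv_inv]⟩
        invFun := fun d => ⟨a * d * a⁻¹, by
          obtain ⟨m, hm⟩ := mem_zpowers_iff.1 d.2
          refine mem_zpowers_iff.2 ⟨m, ?_⟩
          rw [← hm, ← conj_zpow]
          congr 1
          group⟩
        left_inv := fun d => Subtype.ext (by simp [mul_assoc])
        right_inv := fun d => Subtype.ext (by simp [mul_assoc]) }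
    refine Fintype.sum_equiv e _ _ fun d => ?_
    show u (a⁻¹ * ((d : A) * x)) = u (a⁻¹ * (d : A) * a * (a⁻¹ * x))
    congr 1
    group
  let φ : A →* MulAut (Multiplicative V) :=
    { toFun := fun a =>
        { toFun := fun v => Multiplicative.ofAdd ⟨tau a v.toAdd.1, hVtau a _ v.toAdd.2⟩
          invFun := fun v => Multiplicative.ofAdd ⟨tau a⁻¹ v.toAdd.1, hVtau _ _ v.toAdd.2⟩
          left_inv := fun v => by
            apply Multiplicative.toAdd.injective
            refine Subtype.ext (funext fun x => ?_)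
            simp
          right_inv := fun v => by
            apply Multiplicative.toAdd.injective
            refine Subtype.ext (funext fun x => ?_)
            simp
          map_mul' := fun v w => by
            apply Multiplicative.toAdd.injective
            refine Subtype.ext (funext fun x => ?_)
            simp }
      map_one' := by
        refine MulEquiv.ext fun v => ?_
        apply Multiplicative.toAdd.injective
        refine Subtype.ext (funext fun x => ?_)
        simp
      map_mul' := fun a b => by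
        refine MulEquiv.ext fun v => ?_
        apply Multiplicative.toAdd.injective
        refine Subtype.ext (funext fun x => ?_)
        simp [mul_assoc] }
  have : Nontrivial (Multiplicative V) := by
    refine ⟨⟨Multiplicative.ofAdd ⟨f, hfE⟩, 1, fun e => hf ?_⟩⟩
    exact congrArg Subtype.val (congrArg Multiplicative.toAdd e)
  have hfpf : ∀ a : A, a ≠ 1 → ∀ v : Multiplicative V, φ a v = v → v = 1 := by
    intro a ha v hv
    apply Multiplicative.toAdd.injective
    refine Subtype.ext ?_
    have hfix : tau a v.toAdd.1 = v.toAdd.1 := congrArg Subtype.val (congrArg Multiplicative.toAdd hv)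
    have hz : ∀ d ∈ zpowers a, ∀ x, v.toAdd.1 (d * x) = v.toAdd.1 x := by
      intro d hd
      obtain ⟨m, rfl⟩ := (mem_powers_iff_mem_zpowers).2 hd
      induction m with
      | zero => simp
      | succ m ih =>
        intro x
        have h1 := congrFun hfix (a ^ (m + 1) * x)
        have e : a⁻¹ * (a ^ (m + 1) * x) = a ^ m * x := by rw [pow_succ']; group
        rw [tau_apply, e] at h1
        exact h1.symm.trans (ih (pow_mem (mem_zpowers a) m) x)
    funext x
    have h1 := congrFun (v.toAdd.2 a ha) x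
    simp only [E, Pi.zero_apply] at h1
    rw [Finset.sum_congr rfl fun (d : zpowers a) _ => hz (d : A) d.2 x, Finset.sum_const, Finset.card_univ,
      ← Nat.card_eq_fintype_card, nsmul_eq_mul, mul_eq_zero] at h1
    exact h1.resolve_left (cast_ne_zero_of_card hsA a)
  exact ⟨Multiplicative V ⋊[φ] A, inferInstance,
    Finite.of_equiv _ SemidirectProduct.equivProd.symm, SemidirectProduct.inr.range,
    isFrobeniusComplement_inr φ hfpf, ⟨MonoidHom.ofInjective SemidirectProduct.inr_injective⟩⟩

/-- A group of any universe has a copy in `Type`. -/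
theorem exists_small (A : Type*) [Group A] [Finite A] :
    ∃ (B : Type) (_ : Group B) (_ : Fintype B) (_ : DecidableEq B), Nonempty (A ≃* B) := by
  classical
  obtain ⟨n, ⟨e⟩⟩ := Finite.exists_equiv_fin A
  let f : A →* Equiv.Perm (Fin n) := e.permCongrHom.toMonoidHom.comp (MulAction.toPermHom A A)
  have hf : Function.Injective f := fun a b hab => by
    have h1 : MulAction.toPermHom A A a = MulAction.toPermHom A A b := e.permCongrHom.injective hab
    simpa using Equiv.ext_iff.1 h1 1
  exact ⟨f.range, inferInstance, Fintype.ofFinite _, inferInstance, ⟨MonoidHom.ofInjective hf⟩⟩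

theorem free_congr {A B : Type*} [Group A] [Fintype A] [DecidableEq A] [Group B] [Fintype B]
    [DecidableEq B] {R : Type*} [CommRing R] (e : A ≃* B) (h : Free A R) : Free B R := by
  obtain ⟨f, hf, hfE⟩ := h
  refine ⟨f ∘ e.symm, fun h0 => hf (funext fun x => by simpa using congrFun h0 (e x)),
    fun g hg => funext fun x => ?_⟩
  have h1 := congrFun (hfE (e.symm g) (fun h0 => hg (by simpa using congrArg e h0))) (e.symm x)
  rw [Pi.zero_apply] at h1 ⊢
  rw [← h1]
  let e' : zpowers g ≃ zpowers (e.symm g) :=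
    { toFun := fun d => ⟨e.symm d, by
        obtain ⟨m, hm⟩ := mem_zpowers_iff.1 d.2
        exact mem_zpowers_iff.2 ⟨m, by rw [← map_zpow, hm]⟩⟩
      invFun := fun d => ⟨e d, by
        obtain ⟨m, hm⟩ := mem_zpowers_iff.1 d.2
        exact mem_zpowers_iff.2 ⟨m, by rw [← hm, map_zpow, MulEquiv.apply_symm_apply]⟩⟩
      left_inv := fun d => Subtype.ext (by simp)
      right_inv := fun d => Subtype.ext (by simp) }
  refine Fintype.sum_equiv e' _ _ fun d => ?_
  show f (e.symm ((d : B) * x)) = f (e.symm d * e.symm x)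
  rw [map_mul]

/-- Frobenius complements are free in characteristic zero. -/
theorem free_int_of_complement {G : Type*} [Group G] [Finite G] {H : Subgroup G}
    (hH : Cfsg.IsFrobeniusComplement H) [Fintype H] [DecidableEq H] : Free H ℤ := by
  classical
  obtain ⟨V, hV1, hHV, hfpf, hVc⟩ := exists_abelian hH
  obtain ⟨r, hr, hrd⟩ := Nat.exists_prime_and_dvd (n := Nat.card V)
    (fun h => hV1 (eq_bot_of_card_eq V h))
  have := Fact.mk hr
  have hrH : ¬ r ∣ Nat.card H := fun h =>
    hr.one_lt.ne' (Nat.eq_one_of_dvd_coprimes (FPF.coprime_card hHV hfpf) h hrd)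
  refine free_int_of_zmod hrH ?_
  let W : Subgroup G :=
    { carrier := {x | x ∈ V ∧ x ^ r = 1}
      mul_mem' := fun {a b} ha hb => ⟨mul_mem ha.1 hb.1, by
        rw [(show Commute a b from hVc a ha.1 b hb.1).mul_pow, ha.2, hb.2, one_mul]⟩
      one_mem' := ⟨one_mem V, one_pow r⟩
      inv_mem' := fun {a} ha => ⟨inv_mem ha.1, by rw [inv_pow, ha.2, inv_one]⟩ }
  have hWc : ∀ u v : W, u * v = v * u := fun u v => Subtype.ext (hVc u u.2.1 v v.2.1)
  let _ : CommGroup W := { (inferInstance : Group W) with mul_comm := hWc }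
  have hnsmul : ∀ a : Additive W, r • a = 0 := fun a => by
    apply Additive.toMul.injective
    exact Subtype.ext (Additive.toMul a : W).2.2
  let instMod : Module (ZMod r) (Additive W) :=
    AddCommGroup.zmodModule (n := r) (G := Additive W) hnsmul
  have hconj : ∀ (h : H) (w : W), (h : G) * w * (h : G)⁻¹ ∈ W := fun h w =>
    ⟨(mem_normalizer_iff.1 (hHV h.2) _).1 w.2.1, by
      rw [conj_pow, w.2.2, mul_one, mul_inv_cancel]⟩
  let act : H → Module.End (ZMod r) (Additive W) := fun h =>
    AddMonoidHom.toZModLinearMap r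
      { toFun := fun a => Additive.ofMul (⟨(h : G) * (a.toMul : G) * (h : G)⁻¹, hconj h a.toMul⟩ : W)
        map_zero' := by
          apply Additive.toMul.injective
          refine Subtype.ext ?_
          show (h : G) * (1 : G) * (h : G)⁻¹ = 1
          group
        map_add' := fun a b => by
          apply Additive.toMul.injective
          refine Subtype.ext ?_
          show (h : G) * ((a.toMul : G) * (b.toMul : G)) * (h : G)⁻¹ =
            (h : G) * (a.toMul : G) * (h : G)⁻¹ * ((h : G) * (b.toMul : G) * (h : G)⁻¹)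
          group }
  have hact : ∀ (h : H) (a : Additive W),
      ((Additive.toMul (act h a) : W) : G) = (h : G) * ((Additive.toMul a : W) : G) * (h : G)⁻¹ :=
    fun h a => rfl
  let ρ : H →* Module.End (ZMod r) (Additive W) :=
    { toFun := act
      map_one' := LinearMap.ext fun a => by
        apply Additive.toMul.injective
        refine Subtype.ext ?_
        rw [hact, Module.End.one_apply, OneMemClass.coe_one]
        group
      map_mul' := fun h h' => LinearMap.ext fun a => by
        apply Additive.toMul.injective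
        refine Subtype.ext ?_
        rw [hact, Module.End.mul_apply, hact, hact, Subgroup.coe_mul]
        group }
  obtain ⟨x, hx⟩ := exists_prime_orderOf_dvd_card' r hrd
  have hxW : (x : G) ∈ W := ⟨x.2, by
    rw [← hx, ← Subgroup.orderOf_coe, pow_orderOf_eq_one]⟩
  refine free_of_module ρ (fun g hg v => ?_) (v := Additive.ofMul (⟨x, hxW⟩ : W)) fun e => ?_
  · set S := ∑ d : zpowers g, ρ (d : H) v with hS
    have hfix : ρ g S = S := by
      rw [hS, map_sum]
      refine Fintype.sum_equiv (Equiv.mulLeft (⟨g, mem_zpowers g⟩ : zpowers g)) _ _ fun d => ?_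
      show ρ g (ρ (d : H) v) = ρ (g * (d : H)) v
      rw [map_mul, Module.End.mul_apply]
    have h2 := congrArg (fun u : Additive W => ((Additive.toMul u : W) : G)) hfix
    rw [show ((Additive.toMul (ρ g S) : W) : G) = _ from hact g S] at h2
    have h3 : ((Additive.toMul S : W) : G) ∈ V ⊓ centralizer {(g : G)} :=
      mem_inf.2 ⟨(Additive.toMul S : W).2.1,
        mem_centralizer_singleton_iff.2 (mul_inv_eq_iff_eq_mul.1 h2).symm⟩
    rw [hfpf _ g.2 (fun h => hg (Subtype.ext h)), mem_bot] at h3
    exact Additive.toMul.injective (Subtype.ext h3)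
  · have h1 : (⟨x, hxW⟩ : W) = 1 := congrArg Additive.toMul e
    have h2 : (x : G) = 1 := congrArg (fun t : W => (t : G)) h1
    rw [← Subgroup.orderOf_coe, h2, orderOf_one] at hx
    exact hr.one_lt.ne hx
where
  exists_abelian {G : Type _} [Group G] [Finite G] {H : Subgroup G}
      (hH : Cfsg.IsFrobeniusComplement H) :
      ∃ V : Subgroup G, V ≠ ⊥ ∧ H ≤ normalizer (V : Set G) ∧
        (∀ a ∈ H, a ≠ 1 → V ⊓ centralizer {a} = ⊥) ∧ ∀ a ∈ V, ∀ b ∈ V, a * b = b * a := by
    obtain ⟨N, hNn, hN1, hHN, hfpf, hcompl, hset⟩ := FPF.exists_fpf_kernel hH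
    by_cases h2 : 2 ∣ Nat.card H
    · exact ⟨N, hN1, hHN, hfpf, Conjugate.kernel_comm_of_even hH h2 hset⟩
    · obtain ⟨r, hr, hrd⟩ := Nat.exists_prime_and_dvd (n := Nat.card N)
        (fun h => hN1 (eq_bot_of_card_eq N h))
      have := Fact.mk hr
      obtain ⟨R, hR⟩ := CfsgLib.Coprime.exists_invariant_sylow hHN
        (FPF.coprime_card hHN hfpf) (Or.inl (Conjugate.isSolvable_of_odd hH h2)) r
      set R' := (R : Subgroup N).map N.subtype with hR'
      refine ⟨(center R').map R'.subtype, ?_, ?_, fun a ha ha1 => ?_, ?_⟩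
      · intro h
        have : Nontrivial R' := by
          rw [nontrivial_iff_ne_bot, ← one_lt_card_iff_ne_bot, hR',
            CfsgLib.Coprime.card_map_subtype, R.card_eq_multiplicity]
          exact Nat.one_lt_pow (hr.factorization_pos_of_dvd Nat.card_pos.ne' hrd).ne' hr.one_lt
        have := (R.isPGroup'.map N.subtype).center_nontrivial
        obtain ⟨⟨c, hc⟩, hc1⟩ := exists_ne (1 : center R')
        have hmem : (c : G) ∈ (center R').map R'.subtype := mem_map_of_mem _ hc
        rw [h, mem_bot] at hmem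
        exact hc1 (Subtype.ext (Subtype.ext hmem))
      · intro g hg
        refine CfsgLib.Coprime.mem_normalizer_of_conj_map_le ?_
        rintro _ ⟨c, hc, rfl⟩
        have hgR := hR hg
        refine ⟨⟨g * c * g⁻¹, (mem_normalizer_iff.1 hgR c).1 c.2⟩,
          mem_center_iff.2 fun y => Subtype.ext ?_, rfl⟩
        show (y : G) * (g * c * g⁻¹) = g * c * g⁻¹ * y
        have hy : g⁻¹ * (y : G) * g ∈ R' := by
          simpa using (mem_normalizer_iff.1 (inv_mem hgR) y).1 y.2
        have h : (g⁻¹ * (y : G) * g) * c = c * (g⁻¹ * (y : G) * g) :=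
          congrArg Subtype.val (mem_center_iff.1 hc ⟨_, hy⟩)
        calc (y : G) * (g * c * g⁻¹) = g * ((g⁻¹ * (y : G) * g) * c) * g⁻¹ := by group
          _ = _ := by rw [h]; group
      · exact eq_bot_iff.2 ((inf_le_inf_right _
          ((map_subtype_le _).trans (map_subtype_le _))).trans (hfpf a ha ha1).le)
      · rintro _ ⟨a, ha, rfl⟩ _ ⟨b, hb, rfl⟩
        exact congrArg Subtype.val (mem_center_iff.1 hb a)

theorem free_of_injective {A B : Type*} [Group A] [Fintype A] [DecidableEq A] [Group B] [Fintype B]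
    [DecidableEq B] {R : Type*} [CommRing R] (i : A →* B) (hi : Function.Injective i)
    (h : Free B R) : Free A R := by
  obtain ⟨f, hf, hfE⟩ := h
  obtain ⟨b, hb⟩ := Function.ne_iff.1 hf
  refine ⟨fun a => f (i a * b), fun h0 => hb (by simpa using congrFun h0 1), fun g hg => ?_⟩
  funext x
  have h1 := congrFun (hfE (i g) (fun h0 => hg (hi (h0.trans (map_one i).symm)))) (i x * b)
  rw [Pi.zero_apply] at h1 ⊢
  rw [← h1]
  have hbij : Function.Bijective (fun d : zpowers g => (⟨i d, by
      obtain ⟨m, hm⟩ := mem_zpowers_iff.1 d.2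
      exact mem_zpowers_iff.2 ⟨m, by rw [← map_zpow, hm]⟩⟩ : zpowers (i g))) := by
    refine (Nat.bijective_iff_injective_and_card _).2 ⟨fun a c hac => Subtype.ext (hi ?_), ?_⟩
    · exact congrArg (fun t : zpowers (i g) => (t : B)) hac
    · rw [Nat.card_zpowers, Nat.card_zpowers, orderOf_injective i hi]
  refine Eq.trans ?_ (hbij.sum_comp (fun t : zpowers (i g) => f ((t : B) * (i x * b))))
  refine Finset.sum_congr rfl fun d _ => ?_
  show f (i ((d : A) * x) * b) = f (i d * (i x * b))
  rw [map_mul, mul_assoc]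

/-- Being a Frobenius complement, read in characteristic zero. -/
theorem complement_iff {A : Type*} [Group A] [Fintype A] [DecidableEq A] [Nontrivial A] :
    (∃ (L : Type) (_ : Group L) (_ : Finite L) (H : Subgroup L),
      Cfsg.IsFrobeniusComplement H ∧ Nonempty (A ≃* H)) ↔ Free A ℤ := by
  classical
  constructor
  · rintro ⟨L, iL, iF, H, hH, ⟨e⟩⟩
    have := iF
    let _ : Fintype H := Fintype.ofFinite H
    exact free_congr e.symm (free_int_of_complement hH)
  · intro h
    obtain ⟨B, iB, iF, iD, ⟨e⟩⟩ := exists_small A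
    have : Nontrivial B := e.symm.toEquiv.nontrivial
    obtain ⟨s, hle, hs⟩ := Nat.exists_infinite_primes (Nat.card B + 1)
    have := Fact.mk hs
    have hsB : ¬ s ∣ Nat.card B := fun hd => by
      have := Nat.le_of_dvd Nat.card_pos hd
      omega
    obtain ⟨L, iL, iF', H, hH, ⟨e'⟩⟩ :=
      exists_frobenius s hsB (free_zmod_of_int (free_congr e h) s)
    exact ⟨L, iL, iF', H, hH, ⟨e.trans e'⟩⟩

theorem free_of_divisionRing {D : Type*} [DivisionRing D] (H : Subgroup Dˣ) [Fintype H]
    [DecidableEq H] : Free H ℤ := by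
  classical
  have hsum : ∀ g : H, g ≠ 1 → ∀ v : D, ∑ d : zpowers g, (((d : H) : Dˣ) : D) * v = 0 := by
    intro g hg v
    rw [← Finset.sum_mul]
    set S := ∑ d : zpowers g, (((d : H) : Dˣ) : D) with hS
    have hfix : ((g : Dˣ) : D) * S = S := by
      rw [hS, Finset.mul_sum]
      refine Fintype.sum_equiv (Equiv.mulLeft (⟨g, mem_zpowers g⟩ : zpowers g)) _ _ fun d => ?_
      show ((g : Dˣ) : D) * (((d : H) : Dˣ) : D) = (((g * (d : H) : H) : Dˣ) : D)
      rw [Subgroup.coe_mul, Units.val_mul]
    have h1 : (((g : Dˣ) : D) - 1) * S = 0 := by rw [sub_mul, one_mul, hfix, sub_self]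
    rw [mul_eq_zero] at h1
    rw [h1.resolve_left (fun h => hg (Subtype.ext (Units.ext (sub_eq_zero.1 h)))), zero_mul]
  obtain ⟨p, hp⟩ := CharP.exists D
  rcases CharP.char_is_prime_or_zero D p with hpp | rfl
  · have := Fact.mk hpp
    let _ : Algebra (ZMod p) D := ZMod.algebra D p
    have hpH : ¬ p ∣ Nat.card H := by
      intro hd
      obtain ⟨x, hx⟩ := exists_prime_orderOf_dvd_card' p hd
      have h1 : (((x : Dˣ) : D)) ^ p = 1 := by
        rw [← Units.val_pow_eq_pow_val, ← Subgroup.coe_pow, ← hx, pow_orderOf_eq_one]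
        rfl
      have h2 : (((x : Dˣ) : D) - 1) ^ p = 0 := by
        rw [sub_pow_char_of_commute p (Commute.one_right _), h1, one_pow, sub_self]
      have h3 : x = 1 := Subtype.ext (Units.ext (sub_eq_zero.1 (eq_zero_of_pow_eq_zero h2)))
      rw [h3, orderOf_one] at hx
      exact hpp.one_lt.ne hx
    refine free_int_of_zmod hpH (free_of_module
      { toFun := fun h => LinearMap.mulLeft (ZMod p) (((h : Dˣ) : D))
        map_one' := LinearMap.ext fun v => by simp
        map_mul' := fun a b => LinearMap.ext fun v => by simp [mul_assoc] }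
      (fun g hg v => hsum g hg v) one_ne_zero)
  · have := CharP.charP_to_charZero D
    refine free_int_of_rat (free_of_module
      { toFun := fun h => LinearMap.mulLeft ℚ (((h : Dˣ) : D))
        map_one' := LinearMap.ext fun v => by simp
        map_mul' := fun a b => LinearMap.ext fun v => by simp [mul_assoc] }
      (fun g hg v => hsum g hg v) one_ne_zero)

end CfsgLib.FrobRealize.Transfer
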