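import Mathlib
import Cfsg.Agent.Lib.Recognition.Zassenhaus.Presentation
import Cfsg.Agent.Lib.Recognition.Zassenhaus.SL25
import Cfsg.Agent.Lib.Solvable.FPFNilpotent
import Cfsg.Agent.S0039

/-!
# Finite groups with the order type of a Frobenius group

Two finite groups have the same order type when, for each `m`, they have equally many elements of
order `m`. The order type determines the Frobenius structure, and it determines solvability of a
Frobenius complement through the number of elements of order five.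
-/

set_option autoImplicit false

namespace CfsgLib.FrobRealize.OrderType

open Subgroup
open scoped Pointwise

/-- Groups with the same order type are matched by an order-preserving bijection. -/
theorem exists_equiv {F G : Type*} [Group F] [Finite F] [Group G] [Finite G]
    (hT : ∀ m : ℕ, Nat.card {g : F // orderOf g = m} = Nat.card {h : G // orderOf h = m}) :
    ∃ e : F ≃ G, ∀ x, orderOf (e x) = orderOf x := by
  classical
  cases nonempty_fintype F
  cases nonempty_fintype G
  let i : ∀ m, {g : F // orderOf g = m} ≃ {h : G // orderOf h = m} := fun m =>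
    Fintype.equivOfCardEq (by rw [← Nat.card_eq_fintype_card, ← Nat.card_eq_fintype_card]; exact hT m)
  exact ⟨Equiv.ofFiberEquiv i, fun x => Equiv.ofFiberEquiv_map i x⟩

/-- Counts of elements defined by their orders agree. -/
theorem card_congr {F G : Type*} [Group F] [Group G] (e : F ≃ G)
    (he : ∀ x, orderOf (e x) = orderOf x) (P : ℕ → Prop) :
    Nat.card {x : F // P (orderOf x)} = Nat.card {y : G // P (orderOf y)} :=
  Nat.card_congr (e.subtypeEquiv fun x => by rw [he])

/-- A copy of a Frobenius complement inside a small group. -/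
theorem exists_model {F : Type*} [Group F] [Finite F] {C : Subgroup F}
    (hC : Cfsg.IsFrobeniusComplement C) :
    ∃ (L : Type) (_ : Group L) (_ : Finite L) (H : Subgroup L),
      Cfsg.IsFrobeniusComplement H ∧ Nonempty (C ≃* H) := by
  haveI : Finite (Shrink.{0} F) := Finite.of_equiv F (equivShrink.{0} F)
  let φ : Shrink.{0} F ≃* F := Shrink.mulEquiv
  refine ⟨Shrink.{0} F, inferInstance, inferInstance, C.comap φ.toMonoidHom,
    ⟨fun h => hC.1 ?_, fun h => hC.2.1 ?_, fun g hg => ?_⟩, ⟨?_⟩⟩
  · rw [← map_comap_eq_self_of_surjective (f := φ.toMonoidHom) φ.surjective C, h, Subgroup.map_bot]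
  · rw [← map_comap_eq_self_of_surjective (f := φ.toMonoidHom) φ.surjective C, h,
      map_top_of_surjective φ.toMonoidHom φ.surjective]
  · rw [eq_bot_iff_forall]
    intro x hx
    obtain ⟨h1, h2⟩ := mem_inf.1 hx
    rw [Kernel.mem_conj_smul, mem_comap] at h2
    by_contra hx1
    refine hg (mem_comap.2 (Kernel.mem_of_mem_conj hC (x := φ x) (mem_comap.1 h1)
      (fun h => hx1 (φ.injective (by rw [h, map_one]))) ?_))
    simpa using h2
  · exact
      { toFun := fun c => ⟨φ.symm c, by simp⟩
        invFun := fun x => ⟨φ x, x.2⟩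
        left_inv := fun c => by simp
        right_inv := fun x => Subtype.ext (φ.symm_apply_apply _)
        map_mul' := fun a b => Subtype.ext (map_mul φ.symm _ _) }

/-- A normal `p`-subgroup lies in every Sylow `p`-subgroup. -/
theorem le_sylow_of_normal {N : Type*} [Group N] [Finite N] {p : ℕ} [Fact p.Prime] {K : Subgroup N}
    (hK : IsPGroup p K) [K.Normal] (P : Sylow p N) : K ≤ (P : Subgroup N) := by
  obtain ⟨Q, hQ⟩ := hK.exists_le_sylow
  obtain ⟨g, rfl⟩ := MulAction.exists_smul_eq N Q P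
  intro x hx
  rw [Sylow.coe_subgroup_smul]
  exact ⟨g⁻¹ * x * g, hQ (by simpa using (inferInstance : K.Normal).conj_mem x hx g⁻¹),
    by simp [mul_assoc]⟩

/-- Conjugation preserves orders. -/
theorem orderOf_conj' {G : Type*} [Group G] (g x : G) : orderOf (g * x * g⁻¹) = orderOf x :=
  orderOf_injective (MulAut.conj g).toMonoidHom (MulAut.conj g).injective x

/-- In a group with cyclic Sylow subgroups in which groups of order `pq` are cyclic, the subgroup
of prime order is unique. -/
theorem mem_zpowers_of_pq {N : Type*} [Group N] [Finite N] [IsZGroup N]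
    (hPQ : CfsgLib.Recognition.Zassenhaus.PQ N) {p : ℕ} (hp : p.Prime) {x y : N}
    (hx : orderOf x = p) (hy : orderOf y = p) : y ∈ zpowers x := by
  haveI := Fact.mk hp
  have hxp : x ^ p = 1 := hx ▸ pow_orderOf_eq_one x
  have hnorm : (zpowers x).Normal := by
    haveI := IsZGroup.isCyclic_commutator (G := N)
    by_cases hxD : x ∈ commutator N
    · refine ⟨fun z hz g => ?_⟩
      obtain ⟨k, rfl⟩ := mem_zpowers_iff.1 hz
      rw [← conj_zpow]
      refine zpow_mem ?_ k
      have hg : g * x * g⁻¹ ∈ commutator N :=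
        (inferInstance : (commutator N).Normal).conj_mem x hxD g
      have h := CfsgLib.Recognition.Zassenhaus.mem_zpowers_of_cyclic hp.pos
        (g := (⟨g * x * g⁻¹, hg⟩ : commutator N)) (u := ⟨x, hxD⟩)
        (Subtype.ext (by simp [conj_pow, hxp])) (by rw [← Subgroup.orderOf_coe, hx])
      obtain ⟨l, hl⟩ := mem_zpowers_iff.1 h
      exact mem_zpowers_iff.2 ⟨l, congrArg Subtype.val hl⟩
    · have hpD : ¬ p ∣ Nat.card (commutator N) := by
        intro hd
        have hidx : ¬ p ∣ (commutator N).index := fun h =>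
          hp.one_lt.ne' (Nat.eq_one_of_dvd_coprimes (IsZGroup.coprime_commutator_index N) hd h)
        apply hxD
        rw [← QuotientGroup.eq_one_iff, ← orderOf_eq_one_iff]
        rcases (Nat.dvd_prime hp).1 (hx ▸ orderOf_map_dvd (QuotientGroup.mk' (commutator N)) x)
          with h | h
        · exact h
        · exact absurd ((h ▸ orderOf_dvd_natCard (QuotientGroup.mk' (commutator N) x)) :
            p ∣ Nat.card (N ⧸ commutator N)) (by rwa [← index_eq_card])
      obtain ⟨⟨d, hdD⟩, hd⟩ := IsCyclic.exists_generator (α := commutator N)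
      have hdn : ∀ z ∈ commutator N, ∃ l : ℤ, d ^ l = z := fun z hz => by
        obtain ⟨l, hl⟩ := mem_zpowers_iff.1 (hd ⟨z, hz⟩)
        exact ⟨l, congrArg Subtype.val hl⟩
      have hord : orderOf d ∣ Nat.card (commutator N) := by
        rw [show orderOf d = orderOf (⟨d, hdD⟩ : commutator N) from Subgroup.orderOf_coe (H := commutator N) ⟨d, hdD⟩]
        exact orderOf_dvd_natCard _
      obtain ⟨k, hk⟩ := hdn _ ((inferInstance : (commutator N).Normal).conj_mem d hdD x)
      have hiter : ∀ i : ℕ, x ^ i * d * (x ^ i)⁻¹ = d ^ (k ^ i) := by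
        intro i
        induction i with
        | zero => simp
        | succ i ih =>
          calc x ^ (i + 1) * d * (x ^ (i + 1))⁻¹ = x * (x ^ i * d * (x ^ i)⁻¹) * x⁻¹ := by
                rw [pow_succ' x i]; group
            _ = x * d ^ (k ^ i) * x⁻¹ := by rw [ih]
            _ = (x * d * x⁻¹) ^ (k ^ i) := by rw [conj_zpow]
            _ = d ^ (k ^ (i + 1)) := by rw [← hk, ← zpow_mul, pow_succ' k i]
      have hkp : (orderOf d : ℤ) ∣ k ^ p - 1 := by
        rw [orderOf_dvd_iff_zpow_eq_one, zpow_sub_one, ← hiter p, hxp]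
        simp
      have hk1 : ∀ q : ℕ, q.Prime → q ∣ orderOf d → (q : ℤ) ∣ k - 1 := by
        intro q hq hqd
        obtain ⟨m, hm⟩ := hqd
        have hqp : q ≠ p := fun h => hpD (h ▸ (Dvd.intro m hm.symm).trans hord)
        have hm0 : m ≠ 0 := fun h => (orderOf_pos d).ne' (by rw [hm, h, mul_zero])
        have hw : orderOf (d ^ m) = q := by
          rw [orderOf_pow_of_dvd hm0 (by rw [hm]; exact dvd_mul_left m q), hm,
            Nat.mul_div_cancel _ (Nat.pos_of_ne_zero hm0)]
        have he : x * d ^ m * x⁻¹ = (d ^ m) ^ k := by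
          rw [← conj_pow, ← hk, ← zpow_natCast, ← zpow_natCast d m, ← zpow_mul, ← zpow_mul,
            mul_comm]
        have hc := hPQ p q x (d ^ m) hp hq hqp.symm hx hw ⟨k, he⟩
        rw [hc, mul_inv_cancel_right] at he
        rw [← hw, orderOf_dvd_iff_zpow_eq_one, zpow_sub_one, ← he, mul_inv_cancel]
      have hkd : (orderOf d : ℤ) ∣ k - 1 := by
        have hmul : (∑ i ∈ Finset.range p, k ^ i) * (k - 1) = k ^ p - 1 := geom_sum_mul k p
        refine IsCoprime.dvd_of_dvd_mul_left ?_ (hmul ▸ hkp)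
        rw [Int.isCoprime_iff_gcd_eq_one]
        by_contra hne
        obtain ⟨q, hq, hqd⟩ := Nat.exists_prime_and_dvd hne
        have h1 : (q : ℤ) ∣ (orderOf d : ℤ) :=
          (Int.natCast_dvd_natCast.2 hqd).trans (Int.gcd_dvd_left _ _)
        have h2 : (q : ℤ) ∣ ∑ i ∈ Finset.range p, k ^ i :=
          (Int.natCast_dvd_natCast.2 hqd).trans (Int.gcd_dvd_right _ _)
        have hqn : q ∣ orderOf d := Int.natCast_dvd_natCast.1 h1
        have h3 : (q : ℤ) ∣ ∑ i ∈ Finset.range p, (k ^ i - 1) :=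
          Finset.dvd_sum fun i _ => (hk1 q hq hqn).trans (sub_one_dvd_pow_sub_one k i)
        rw [Finset.sum_sub_distrib, Finset.sum_const, Finset.card_range, nsmul_one] at h3
        have h4 : (q : ℤ) ∣ (p : ℤ) := by simpa using dvd_sub h2 h3
        rw [Int.natCast_dvd_natCast, Nat.prime_dvd_prime_iff_eq hq hp] at h4
        exact hpD (h4 ▸ hqn.trans hord)
      have hdx : x * d * x⁻¹ = d := by
        rw [← hk]
        calc d ^ k = d ^ (k - 1) * d := by rw [zpow_sub_one]; group
          _ = d := by rw [orderOf_dvd_iff_zpow_eq_one.1 hkd, one_mul]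
      have hxz : ∀ g : N, g * x * g⁻¹ = x := by
        intro g
        have hc : g * x * g⁻¹ * x⁻¹ ∈ commutator N :=
          commutator_mem_commutator (mem_top g) (mem_top x)
        obtain ⟨l, hl⟩ := hdn _ hc
        have hcx : Commute (g * x * g⁻¹ * x⁻¹) x := by
          rw [← hl]
          exact Commute.zpow_left (Commute.symm (mul_inv_eq_iff_eq_mul.1 hdx)) l
        have hpow : (g * x * g⁻¹ * x⁻¹) ^ p = 1 := by
          have h := hcx.mul_pow p
          rwa [hxp, mul_one, inv_mul_cancel_right, conj_pow, hxp, mul_one, mul_inv_cancel,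
            eq_comm] at h
        have h1 : orderOf (g * x * g⁻¹ * x⁻¹) = 1 := by
          rcases (Nat.dvd_prime hp).1 (orderOf_dvd_of_pow_eq_one hpow) with h | h
          · exact h
          · refine absurd ?_ hpD
            rw [← h, show orderOf (g * x * g⁻¹ * x⁻¹) =
              orderOf (⟨_, hc⟩ : commutator N) from Subgroup.orderOf_coe (H := commutator N) ⟨_, hc⟩]
            exact orderOf_dvd_natCard _
        exact mul_inv_eq_one.1 (orderOf_eq_one_iff.1 h1)
      refine ⟨fun z hz g => ?_⟩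
      obtain ⟨l, rfl⟩ := mem_zpowers_iff.1 hz
      rw [← conj_zpow, hxz g]
      exact zpow_mem (mem_zpowers x) l
  haveI := hnorm
  obtain ⟨P, hP⟩ := (IsPGroup.of_card (n := 1)
    (by rw [Nat.card_zpowers, hy, pow_one]) : IsPGroup p (zpowers y)).exists_le_sylow
  have hxP : x ∈ P := le_sylow_of_normal (IsPGroup.of_card (n := 1)
    (by rw [Nat.card_zpowers, hx, pow_one])) P (mem_zpowers x)
  haveI : IsCyclic P := IsZGroup.isZGroup p hp P
  have h := CfsgLib.Recognition.Zassenhaus.mem_zpowers_of_cyclic hp.pos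
    (g := (⟨y, hP (mem_zpowers y)⟩ : P)) (u := ⟨x, hxP⟩)
    (Subtype.ext (by simp [← hy, pow_orderOf_eq_one])) (by rw [← Subgroup.orderOf_coe, hx])
  obtain ⟨l, hl⟩ := mem_zpowers_iff.1 h
  exact mem_zpowers_iff.2 ⟨l, congrArg Subtype.val hl⟩

/-- A solvable Frobenius complement has at most four elements of order five. -/
theorem card_five_le {A : Type*} [Group A] [Finite A] [Group.IsSolvable A] {L : Type} [Group L]
    [Finite L] {H : Subgroup L} (hH : Cfsg.IsFrobeniusComplement H) (e : A ≃* H) :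
    Nat.card {x : A // orderOf x = 5} ≤ 4 := by
  classical
  obtain ⟨N, ⟨hNn, hNZ, hshape⟩, -⟩ :=
    CfsgLib.Recognition.Zassenhaus.frobenius_kernel_shape hH e
  haveI := hNn
  haveI := hNZ
  have hns5 : ¬ Group.IsSolvable (alternatingGroup (Fin 5)) := by
    intro h
    haveI := h
    haveI : Group.IsSolvable ℤˣ := Group.isSolvable_of_comm fun a b => mul_comm a b
    exact Equiv.Perm.fin_5_not_solvable
      (Group.isSolvable_of_ker_le_range (alternatingGroup (Fin 5)).subtype Equiv.Perm.sign
        (fun x hx => ⟨⟨x, hx⟩, rfl⟩))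
  have hidx : N.index ∣ 24 := by
    rcases hshape with rfl | ⟨f, hf, rfl⟩ | ⟨f, hf, rfl⟩ | ⟨f, hf, rfl⟩ | ⟨f, hf, rfl⟩ |
      ⟨f, hf, rfl⟩
    · simp
    · rw [index_ker, MonoidHom.range_eq_top.2 hf, card_top, DihedralGroup.nat_card]
      norm_num
    · rw [index_ker, MonoidHom.range_eq_top.2 hf, card_top, Nat.card_eq_fintype_card,
        show Fintype.card (alternatingGroup (Fin 4)) = 12 by decide]
      norm_num
    · rw [index_ker, MonoidHom.range_eq_top.2 hf, card_top, Nat.card_perm, Nat.card_fin]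
      decide
    · exact absurd (Group.isSolvable_of_surjective hf) hns5
    · exact absurd (Group.isSolvable_of_surjective hf) Equiv.Perm.fin_5_not_solvable
  have hmemN : ∀ x : A, orderOf x = 5 → x ∈ N := by
    intro x hx
    rw [← QuotientGroup.eq_one_iff, ← orderOf_eq_one_iff]
    refine Nat.eq_one_of_dvd_coprimes (a := 5) (b := 24) (by norm_num)
      (hx ▸ orderOf_map_dvd (QuotientGroup.mk' N) x) (dvd_trans ?_ hidx)
    rw [index_eq_card]
    exact orderOf_dvd_natCard _
  rcases isEmpty_or_nonempty {x : A // orderOf x = 5} with h0 | ⟨⟨x, hx⟩⟩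
  · simp
  have hPQ : CfsgLib.Recognition.Zassenhaus.PQ N :=
    (CfsgLib.Recognition.Zassenhaus.pq_of_complement hH e).of_injective N.subtype N.subtype_injective
  have hin : ∀ y : {x : A // orderOf x = 5}, (y : A) ∈ zpowers x := fun y => by
    have h := mem_zpowers_of_pq hPQ Nat.prime_five
      (x := (⟨x, hmemN x hx⟩ : N)) (y := ⟨y, hmemN y y.2⟩)
      (by rw [← Subgroup.orderOf_coe, hx]) (by rw [← Subgroup.orderOf_coe, y.2])
    obtain ⟨l, hl⟩ := mem_zpowers_iff.1 h
    exact mem_zpowers_iff.2 ⟨l, congrArg Subtype.val hl⟩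
  have hlt : Nat.card {x : A // orderOf x = 5} < Nat.card (zpowers x) := by
    letI := Fintype.ofFinite A
    rw [Nat.card_eq_fintype_card, Nat.card_eq_fintype_card]
    refine Fintype.card_lt_of_injective_of_notMem (b := (1 : zpowers x))
      (fun y => (⟨y, hin y⟩ : zpowers x)) (fun a b h => Subtype.ext ?_) ?_
    · exact congrArg (fun z : zpowers x => (z : A)) h
    · rintro ⟨y, hy⟩
      have hy1 : (y : A) = 1 := congrArg (fun z : zpowers x => (z : A)) hy
      have := y.2
      rw [hy1, orderOf_one] at this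
      omega
  rw [Nat.card_zpowers, hx] at hlt
  omega

/-- A nonsolvable Frobenius complement has more than four elements of order five. -/
theorem lt_card_five {A : Type*} [Group A] [Finite A] (hns : ¬ Group.IsSolvable A) {L : Type}
    [Group L] [Finite L] {H : Subgroup L} (hH : Cfsg.IsFrobeniusComplement H) (e : A ≃* H) :
    4 < Nat.card {x : A // orderOf x = 5} := by
  obtain ⟨K, -, -, -, ⟨i⟩, -⟩ := CfsgLib.Recognition.Zassenhaus.frobenius_structure hns hH e
  let v : Fin 5 → Matrix.SpecialLinearGroup (Fin 2) (ZMod 5) :=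
    ![⟨!![1, 1; 0, 1], by decide +kernel⟩, ⟨!![1, 2; 0, 1], by decide +kernel⟩,
      ⟨!![1, 3; 0, 1], by decide +kernel⟩, ⟨!![1, 4; 0, 1], by decide +kernel⟩,
      ⟨!![1, 0; 1, 1], by decide +kernel⟩]
  have hv : Function.Injective v := by decide +kernel
  have hv5 : ∀ j, v j ^ 5 = 1 := by decide +kernel
  have hv1 : ∀ j, v j ≠ 1 := by decide +kernel
  let g : Matrix.SpecialLinearGroup (Fin 2) (ZMod 5) →* A :=
    K.subtype.comp i.symm.toMonoidHom
  have hg : Function.Injective g := K.subtype_injective.comp i.symm.injective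
  haveI : Fact (Nat.Prime 5) := ⟨Nat.prime_five⟩
  have h : ∀ j, orderOf (g (v j)) = 5 := fun j => orderOf_eq_prime
    (by rw [← map_pow, hv5, map_one]) (fun h => hv1 j (hg (by rw [h, map_one])))
  have hle := Nat.card_le_card_of_injective (fun j => (⟨g (v j), h j⟩ : {x : A // orderOf x = 5}))
    (fun a b hab => hv (hg (congrArg (fun z : {x : A // orderOf x = 5} => (z : A)) hab)))
  rw [Nat.card_fin] at hle
  omega

/-- A Frobenius complement is solvable exactly when it has at most four elements of order five. -/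
theorem isSolvable_iff_card_five {F : Type*} [Group F] [Finite F] {C : Subgroup F}
    (hC : Cfsg.IsFrobeniusComplement C) :
    Group.IsSolvable C ↔ Nat.card {x : C // orderOf x = 5} ≤ 4 := by
  obtain ⟨L, _, _, H, hH, ⟨e⟩⟩ := exists_model hC
  refine ⟨fun _ => card_five_le hH e, fun h => ?_⟩
  by_contra hns
  exact absurd (lt_card_five hns hH e) (by omega)

/-- The elements of `p`-power order form a Sylow subgroup when there are no more of them. -/
theorem sylow_normal_of_card {G : Type*} [Group G] [Finite G] {p : ℕ} [Fact p.Prime]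
    (hc : Nat.card {x : G // ∃ k, orderOf x = p ^ k} = p ^ (Nat.card G).factorization p)
    (P : Sylow p G) : (P : Subgroup G).Normal := by
  have hsub : ((P : Subgroup G) : Set G) ⊆ {x | ∃ k, orderOf x = p ^ k} := fun x hx => by
    obtain ⟨k, hk⟩ := IsPGroup.iff_orderOf.1 P.isPGroup' ⟨x, hx⟩
    exact ⟨k, by rw [← hk, ← Subgroup.orderOf_coe]⟩
  have heq : ((P : Subgroup G) : Set G) = {x | ∃ k, orderOf x = p ^ k} := by
    refine Set.eq_of_subset_of_ncard_le hsub (le_of_eq ?_) (Set.toFinite _)
    rw [← Nat.card_coe_set_eq, ← Nat.card_coe_set_eq]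
    exact hc.trans P.card_eq_multiplicity.symm
  refine ⟨fun x hx g => ?_⟩
  rw [← SetLike.mem_coe, heq, Set.mem_ofPred_eq] at hx ⊢
  rwa [orderOf_conj']

/-- The elements of `p`-power order of a group with a normal Sylow subgroup. -/
theorem card_ppow_of_normal {G : Type*} [Group G] [Finite G] {p : ℕ} [Fact p.Prime]
    (P : Sylow p G) [(P : Subgroup G).Normal] :
    Nat.card {x : G // ∃ k, orderOf x = p ^ k} = p ^ (Nat.card G).factorization p := by
  rw [← P.card_eq_multiplicity]
  refine Nat.card_congr (Equiv.subtypeEquivRight fun x => ⟨fun ⟨k, hk⟩ => ?_, fun hx => ?_⟩)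
  · obtain ⟨Q, hQ⟩ := (IsPGroup.of_card (n := k)
      (by rw [Nat.card_zpowers, hk]) : IsPGroup p (zpowers x)).exists_le_sylow
    letI := Sylow.unique_of_normal P ‹_›
    rw [Subsingleton.elim P Q]
    exact hQ (mem_zpowers x)
  · obtain ⟨k, hk⟩ := IsPGroup.iff_orderOf.1 P.isPGroup' ⟨x, hx⟩
    exact ⟨k, by rw [← hk, ← Subgroup.orderOf_coe]⟩

/-- A group is solvable exactly when a complement of a solvable normal subgroup is. -/
theorem isSolvable_iff_complement {G : Type*} [Group G] {N H : Subgroup G} [N.Normal]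
    [Group.IsSolvable N] (hc : IsComplement' N H) : Group.IsSolvable G ↔ Group.IsSolvable H := by
  refine ⟨fun _ => inferInstance, fun hH => ?_⟩
  haveI := hH
  rw [Group.isSolvable_iff_subgroup_quotient N]
  exact ⟨inferInstance,
    Group.isSolvable_of_surjective (f := (hc.symm.QuotientMulEquiv).symm.toMonoidHom)
      (hc.symm.QuotientMulEquiv).symm.surjective⟩

/-- The elements outside the kernel are conjugates of complement elements by kernel elements. -/
theorem card_outside {G : Type*} [Group G] [Finite G] {N H : Subgroup G} [N.Normal]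
    (hc : IsComplement' N H) (hfpf : ∀ a ∈ H, a ≠ 1 → N ⊓ centralizer {a} = ⊥)
    (hmix : ∀ x : G, x ∉ N → ∃ g : G, g⁻¹ * x * g ∈ H)
    {m : ℕ} (hm : m.Coprime (Nat.card N)) (hm1 : m ≠ 1) :
    Nat.card {x : G // orderOf x = m} = Nat.card N * Nat.card {c : H // orderOf c = m} := by
  rw [← Nat.card_prod]
  refine (Nat.card_eq_of_bijective
    (fun w : N × {c : H // orderOf c = m} =>
      (⟨(w.1 : G) * (w.2.1 : G) * (w.1 : G)⁻¹,
        by rw [orderOf_conj', Subgroup.orderOf_coe, w.2.2]⟩ : {x : G // orderOf x = m}))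
    ⟨?_, ?_⟩).symm
  · rintro ⟨a, c⟩ ⟨b, c'⟩ h
    have he : (a : G) * (c.1 : G) * (a : G)⁻¹ = (b : G) * (c'.1 : G) * (b : G)⁻¹ :=
      congrArg Subtype.val h
    set t : G := (b : G)⁻¹ * (a : G) with ht
    have ht' : t ∈ N := N.mul_mem (N.inv_mem b.2) a.2
    have e1 : t * (c.1 : G) * t⁻¹ = (c'.1 : G) := by
      calc t * (c.1 : G) * t⁻¹ = (b : G)⁻¹ * ((a : G) * (c.1 : G) * (a : G)⁻¹) * (b : G) := by
            rw [ht]; group
        _ = (c'.1 : G) := by rw [he]; group
    have e2 : (c'.1 : G) * (c.1 : G)⁻¹ = 1 := by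
      refine mem_bot.1 (hc.disjoint.le_bot (mem_inf.2 ⟨?_, H.mul_mem c'.1.2 (H.inv_mem c.1.2)⟩))
      rw [← e1, mul_assoc, mul_assoc]
      exact N.mul_mem ht' (by
        simpa [mul_assoc] using
          (inferInstance : N.Normal).conj_mem t⁻¹ (N.inv_mem ht') (c.1 : G))
    have e3 : (c'.1 : G) = (c.1 : G) := mul_inv_eq_one.1 e2
    obtain rfl : c' = c := Subtype.ext (Subtype.ext e3)
    have hc1 : (c'.1 : G) ≠ 1 := fun h => hm1 (by
      rw [← c'.2, ← Subgroup.orderOf_coe, h, orderOf_one])
    have : t ∈ N ⊓ centralizer {(c'.1 : G)} := mem_inf.2 ⟨ht',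
      mem_centralizer_singleton_iff.2 (mul_inv_eq_iff_eq_mul.1 e1)⟩
    rw [hfpf _ c'.1.2 hc1, mem_bot, ht, inv_mul_eq_one] at this
    exact Prod.ext (Subtype.ext this.symm) rfl
  · rintro ⟨x, hx⟩
    have hxN : x ∉ N := fun h => hm1 (Nat.eq_one_of_dvd_coprimes hm (dvd_refl m)
      (hx ▸ Subgroup.orderOf_dvd_natCard (s := N) h))
    obtain ⟨g, hg⟩ := hmix x hxN
    obtain ⟨⟨k, c0⟩, hkc⟩ := hc.2 g
    dsimp only at hkc
    have hmem : (k : G)⁻¹ * x * (k : G) ∈ H := by
      have h := H.mul_mem (H.mul_mem c0.2 hg) (H.inv_mem c0.2)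
      have e : (c0 : G) * (g⁻¹ * x * g) * (c0 : G)⁻¹ = (k : G)⁻¹ * x * (k : G) := by
        rw [← hkc]; group
      rwa [e] at h
    refine ⟨⟨k, ⟨⟨_, hmem⟩, ?_⟩⟩, Subtype.ext ?_⟩
    · rw [← Subgroup.orderOf_coe]
      simpa [← hx] using orderOf_conj' (k : G)⁻¹ x
    · show (k : G) * ((k : G)⁻¹ * x * (k : G)) * (k : G)⁻¹ = x
      group

/-- A group with the order type of a Frobenius group is a Frobenius group, and is solvable exactly
when the latter is. -/
theorem frobenius_of_sameOrderType {F G : Type*} [Group F] [Finite F] [Group G] [Finite G]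
    {C : Subgroup F} (hC : Cfsg.IsFrobeniusComplement C)
    (hT : ∀ m : ℕ, Nat.card {g : F // orderOf g = m} = Nat.card {h : G // orderOf h = m}) :
    (∃ H : Subgroup G, Cfsg.IsFrobeniusComplement H) ∧
      (Group.IsSolvable G ↔ Group.IsSolvable F) := by
  classical
  obtain ⟨N, hNn, hN1, hCN, hfpf, hc, hset⟩ := FPF.exists_fpf_kernel hC
  haveI := hNn
  haveI : Group.IsNilpotent N := by
    obtain ⟨N₀, hs, -, hn⟩ := CfsgLib.Solvable.FPFNilpotent.frobenius_kernel_nilpotent hC
    obtain rfl : N₀ = N := SetLike.coe_injective (hs.trans hset.symm)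
    exact hn
  obtain ⟨e, he⟩ := exists_equiv hT
  set n := Nat.card N with hn
  set h := Nat.card C with hh
  have hcop : h.Coprime n := FPF.coprime_card hCN hfpf
  have hcardF : Nat.card F = n * h := hc.card_mul_card.symm
  have hcardG : Nat.card G = n * h := by rw [← Nat.card_congr e, hcardF]
  have hmixF : ∀ x : F, x ∉ N → ∃ g : F, g⁻¹ * x * g ∈ C := by
    intro x hx
    rw [← SetLike.mem_coe, hset, Kernel.mem_frobeniusKernel] at hx
    push Not at hx
    exact hx.2
  have hdichF : ∀ x : F, orderOf x ∣ n ∨ orderOf x ∣ h := by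
    intro x
    by_cases hx : x ∈ N
    · exact Or.inl (Subgroup.orderOf_dvd_natCard N hx)
    · obtain ⟨g, hg⟩ := hmixF x hx
      refine Or.inr ?_
      have := Subgroup.orderOf_dvd_natCard C hg
      rwa [show orderOf (g⁻¹ * x * g) = orderOf x by simpa using orderOf_conj' g⁻¹ x] at this
  have hinF : ∀ x : F, orderOf x ∣ n → x ∈ N := by
    intro x hx
    by_contra hxN
    obtain ⟨g, hg⟩ := hmixF x hxN
    have h1 := Subgroup.orderOf_dvd_natCard C hg
    rw [show orderOf (g⁻¹ * x * g) = orderOf x by simpa using orderOf_conj' g⁻¹ x] at h1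
    exact hxN (orderOf_eq_one_iff.1 (Nat.eq_one_of_dvd_coprimes hcop h1 hx) ▸ N.one_mem)
  have hdichG : ∀ y : G, orderOf y ∣ n ∨ orderOf y ∣ h := fun y => by
    have := hdichF (e.symm y)
    rwa [← he, e.apply_symm_apply] at this
  have hfac : ∀ p : ℕ, p.Prime → p ∣ n → (n * h).factorization p = n.factorization p := by
    intro p hp hpn
    have hph : ¬ p ∣ h := fun hd => hp.one_lt.ne' (Nat.eq_one_of_dvd_coprimes hcop hd hpn)
    rw [Nat.factorization_mul Nat.card_pos.ne' Nat.card_pos.ne', Finsupp.add_apply,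
      Nat.factorization_eq_zero_of_not_dvd hph, add_zero]
  have hsylG : ∀ (p : ℕ) [Fact p.Prime], p ∣ n → ∀ P : Sylow p G, (P : Subgroup G).Normal := by
    intro p hp hpn P
    apply sylow_normal_of_card
    obtain ⟨Q⟩ : Nonempty (Sylow p N) := inferInstance
    haveI : (Q : Subgroup N).Normal :=
      (Group.isNilpotent_of_finite_tfae (G := N)).out 0 3 rfl rfl |>.mp inferInstance p hp Q
    rw [hcardG, hfac p hp.out hpn, ← card_ppow_of_normal Q,
      ← card_congr e he (fun o => ∃ k, o = p ^ k)]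
    have hpin : ∀ x : F, (∃ k, orderOf x = p ^ k) → x ∈ N := by
      rintro x ⟨k, hk⟩
      refine hinF x ?_
      have hd : orderOf x ∣ n * h := hcardF ▸ orderOf_dvd_natCard x
      rw [hk] at hd ⊢
      refine (Nat.Coprime.pow_left k ((Nat.Prime.coprime_iff_not_dvd hp.out).2
        fun hd' => ?_)).dvd_of_dvd_mul_right hd
      exact hp.out.one_lt.ne' (Nat.eq_one_of_dvd_coprimes hcop hd' hpn)
    exact (Nat.card_congr
      { toFun := fun x : {x : N // ∃ k, orderOf x = p ^ k} =>
          (⟨(x.1 : F), by simpa only [Subgroup.orderOf_coe] using x.2⟩ :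
            {x : F // ∃ k, orderOf x = p ^ k})
        invFun := fun x => ⟨⟨x.1, hpin x.1 x.2⟩, by
          simpa only [← Subgroup.orderOf_coe] using x.2⟩
        left_inv := fun x => rfl
        right_inv := fun x => rfl }).symm
  obtain ⟨K, ⟨hKn, hKd⟩, hKmax⟩ := Set.exists_max_image
    {K : Subgroup G | K.Normal ∧ Nat.card K ∣ n} (fun K => Nat.card K) (Set.toFinite _)
    ⟨⊥, inferInstance, by simp⟩
  haveI := hKn
  have hPK : ∀ (p : ℕ) [Fact p.Prime], p ∣ n → ∀ P : Sylow p G, (P : Subgroup G) ≤ K := by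
    intro p hp hpn P
    haveI := hsylG p hpn P
    have hPn : Nat.card (P : Subgroup G) ∣ n := by
      rw [P.card_eq_multiplicity, hcardG, hfac p hp.out hpn]
      exact Nat.ordProj_dvd n p
    have hrel : Nat.card K * K.relIndex (K ⊔ P) = Nat.card (K ⊔ P : Subgroup G) := by
      have h := Subgroup.relIndex_mul_relIndex ⊥ K (K ⊔ (P : Subgroup G)) bot_le le_sup_left
      rwa [Subgroup.relIndex_bot_left, Subgroup.relIndex_bot_left] at h
    have hd2 : K.relIndex (K ⊔ P) ∣ Nat.card (P : Subgroup G) := by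
      rw [sup_comm, Subgroup.relIndex_sup_right]
      exact Subgroup.relIndex_dvd_card _ _
    have hsd : Nat.card (K ⊔ P : Subgroup G) ∣ n := by
      have h1 : Nat.card (K ⊔ P : Subgroup G) ∣ n * n :=
        hrel ▸ mul_dvd_mul hKd (hd2.trans hPn)
      have h2 : Nat.card (K ⊔ P : Subgroup G) ∣ n * h := hcardG ▸ card_subgroup_dvd_card _
      exact (Nat.Coprime.coprime_dvd_left h1 (Nat.Coprime.mul_left hcop.symm hcop.symm))
        |>.dvd_of_dvd_mul_right h2
    have hle := hKmax (K ⊔ P) ⟨inferInstance, hsd⟩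
    exact le_sup_right.trans (Subgroup.eq_of_le_of_card_ge le_sup_left hle).ge
  have hKcard : Nat.card K = n := by
    refine Nat.dvd_antisymm hKd ((Nat.dvd_iff_prime_pow_dvd_dvd _ _).2 fun p k hp hpk => ?_)
    rcases Nat.eq_zero_or_pos k with rfl | hk
    · simp
    haveI := Fact.mk hp
    have hpn : p ∣ n := (dvd_pow_self p hk.ne').trans hpk
    obtain ⟨P⟩ : Nonempty (Sylow p G) := inferInstance
    have h1 := Subgroup.card_dvd_of_le (hPK p hpn P)
    rw [P.card_eq_multiplicity, hcardG, hfac p hp hpn] at h1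
    exact ((pow_dvd_pow p ((hp.pow_dvd_iff_le_factorization Nat.card_pos.ne').1 hpk))).trans h1
  have hKidx : K.index = h := by
    have h1 := K.card_mul_index
    rw [hKcard, hcardG] at h1
    exact Nat.eq_of_mul_eq_mul_left Nat.card_pos h1
  haveI : Group.IsNilpotent K := by
    refine (Group.isNilpotent_of_finite_tfae (G := K)).out 0 3 rfl rfl |>.mpr fun p hp Q => ?_
    haveI := hp
    by_cases hpn : p ∣ n
    · obtain ⟨P⟩ : Nonempty (Sylow p G) := inferInstance
      haveI := hsylG p hpn P
      haveI : ((P.subtype (hPK p hpn P) : Sylow p K) : Subgroup K).Normal :=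
        (inferInstance : ((P : Subgroup G).subgroupOf K).Normal)
      letI := Sylow.unique_of_normal (P.subtype (hPK p hpn P)) ‹_›
      rw [Subsingleton.elim Q (P.subtype (hPK p hpn P))]
      infer_instance
    · have hQ : Nat.card (Q : Subgroup K) = 1 := by
        rw [Q.card_eq_multiplicity, hKcard, Nat.factorization_eq_zero_of_not_dvd hpn, pow_zero]
      rw [Subgroup.card_eq_one.1 hQ]
      infer_instance
  obtain ⟨H, hH⟩ := Subgroup.exists_right_complement'_of_coprime (N := K)
    (by rw [hKcard, hKidx]; exact hcop.symm)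
  have hHcard : Nat.card H = h := by rw [← hH.symm.index_eq_card, hKidx]
  have hfpfG : ∀ x ∈ H, x ≠ 1 → K ⊓ centralizer {x} = ⊥ := by
    intro x hx hx1
    rw [eq_bot_iff_forall]
    intro y hy
    obtain ⟨hyK, hyc⟩ := mem_inf.1 hy
    by_contra hy1
    have hxh : orderOf x ∣ h := hHcard ▸ Subgroup.orderOf_dvd_natCard H hx
    have hyn : orderOf y ∣ n := hKcard ▸ Subgroup.orderOf_dvd_natCard K hyK
    have hcomm : Commute y x := mem_centralizer_singleton_iff.1 hyc
    have ho := hcomm.orderOf_mul_eq_mul_orderOf_of_coprime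
      (Nat.Coprime.coprime_dvd_left hyn (Nat.Coprime.coprime_dvd_right hxh hcop.symm))
    rcases hdichG (y * x) with hd | hd <;> rw [ho] at hd
    · exact hx1 (orderOf_eq_one_iff.1
        (Nat.eq_one_of_dvd_coprimes hcop hxh ((dvd_mul_left _ _).trans hd)))
    · exact hy1 (orderOf_eq_one_iff.1
        (Nat.eq_one_of_dvd_coprimes hcop ((dvd_mul_right _ _).trans hd) hyn))
  have hK1 : K ≠ ⊥ := fun h0 => hN1 (Subgroup.card_eq_one.1 (by
    rw [← hn, ← hKcard, h0, card_bot]))
  have hH1 : H ≠ ⊥ := fun h0 => hC.1 (Subgroup.card_eq_one.1 (by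
    rw [← hh, ← hHcard, h0, card_bot]))
  have hFrob : Cfsg.IsFrobeniusComplement H := (Cfsg.Agent.S0039.result K H hH hK1 hH1).2 hfpfG
  refine ⟨⟨H, hFrob⟩, ?_⟩
  obtain ⟨N', hN'n, -, -, -, hc', hset'⟩ := FPF.exists_fpf_kernel hFrob
  have hN'K : N' = K := by
    refine (Subgroup.eq_of_le_of_card_ge ?_ ?_).symm
    · intro x hx
      rw [← SetLike.mem_coe, hset', Kernel.mem_frobeniusKernel]
      refine (eq_or_ne x 1).imp id fun hx1 g hg => hx1 ?_
      have h1 : g⁻¹ * x * g ∈ K := by simpa using hKn.conj_mem x hx g⁻¹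
      have h2 : g⁻¹ * x * g = 1 := mem_bot.1 (hH.disjoint.le_bot (mem_inf.2 ⟨h1, hg⟩))
      calc x = g * (g⁻¹ * x * g) * g⁻¹ := by group
        _ = 1 := by rw [h2]; group
    · have h1 := hc'.card_mul_card
      rw [hHcard, hcardG] at h1
      rw [hKcard]
      exact le_of_eq (Nat.eq_of_mul_eq_mul_right Nat.card_pos h1)
  have hmixG : ∀ x : G, x ∉ K → ∃ g : G, g⁻¹ * x * g ∈ H := by
    intro x hx
    rw [← hN'K, ← SetLike.mem_coe, hset', Kernel.mem_frobeniusKernel] at hx
    push Not at hx
    exact hx.2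
  rw [isSolvable_iff_complement hH, isSolvable_iff_complement hc,
    isSolvable_iff_card_five hFrob, isSolvable_iff_card_five hC]
  suffices hs : Nat.card {c : H // orderOf c = 5} = Nat.card {c : C // orderOf c = 5} by rw [hs]
  by_cases h5 : 5 ∣ h
  · have hm : Nat.Coprime 5 n := Nat.Coprime.coprime_dvd_left h5 hcop
    have hF := card_outside hc hfpf hmixF (m := 5) hm (by norm_num)
    have hG := card_outside hH hfpfG hmixG (m := 5) (by rwa [hKcard]) (by norm_num)
    rw [hT 5, hG, hKcard] at hF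
    exact Nat.eq_of_mul_eq_mul_left Nat.card_pos hF
  · have h1 : IsEmpty {c : H // orderOf c = 5} :=
      ⟨fun c => h5 (c.2 ▸ hHcard ▸ orderOf_dvd_natCard c.1)⟩
    have h2 : IsEmpty {c : C // orderOf c = 5} :=
      ⟨fun c => h5 (c.2 ▸ hh ▸ orderOf_dvd_natCard c.1)⟩
    simp

end CfsgLib.FrobRealize.OrderType
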